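/-
Root values for D_n: the upper skew root elements by equivariance under SL_n.

* `SDat`: SL_n, the SL_3 at the fork, and the commutations.
* `VV`: the value at ε_a + ε_b; its relations with SL_n, with itself and with the dual values.
-/
import Cfsg.Agent.Lib.CurtisTitsA.Step

set_option autoImplicit false

open Matrix
open scoped commutatorElement

namespace Cfsg.Agent.CurtisTitsD

open CurtisTitsA

variable {F : Type*} [Field F] {G : Type*} [Group G] {p : ℕ}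

local notation "SL[" m "]" => Matrix.SpecialLinearGroup (Fin m) F
local notation "Vec" => (Fin (p + 2) → F)
local notation "PE" => (CurtisTitsA.pe : Fin (p + 2))
local notation "LA" => (CurtisTitsA.la : Fin (p + 2))

/-- A monomial element moving indices as prescribed. -/
theorem exists_monomial {N k : ℕ} (f g : Fin (k + 1) → Fin N) (hf : Function.Injective f)
    (hg : Function.Injective g) :
    ∃ (M : Matrix.SpecialLinearGroup (Fin N) F) (c : Fin (k + 1) → F),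
      (∀ x, c x ≠ 0) ∧ ∀ (x : Fin (k + 1)) (a : F),
        M • (Pi.single (f x) a : Fin N → F) = Pi.single (g x) (c x * a) ∧
        τ M • (Pi.single (f x) a : Fin N → F) = Pi.single (g x) ((c x)⁻¹ * a) := by
  classical
  let e : {x // x ∈ Set.range f} ≃ {x // x ∈ Set.range g} :=
    (Equiv.ofInjective f hf).symm.trans (Equiv.ofInjective g hg)
  let σ : Equiv.Perm (Fin N) := e.extendSubtype
  have hσ : ∀ x, σ (f x) = g x := by
    intro x
    show e.extendSubtype (f x) = g x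
    rw [Equiv.extendSubtype_apply_of_mem _ _ (Set.mem_range_self x)]
    simp [e]
  let s : F := ((Equiv.Perm.sign σ : ℤ) : F)
  have hs : s * s = 1 := by
    rcases Int.units_eq_one_or (Equiv.Perm.sign σ) with h | h <;> simp [s, h]
  let d : Fin N → F := fun y => if y = f 0 then s else 1
  let M : Matrix (Fin N) (Fin N) F := fun i j => if i = σ j then d j else 0
  have hM : M.det = 1 := by
    have : M = (Matrix.diagonal d).submatrix σ.symm id := by
      ext i j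
      simp only [M, Matrix.submatrix_apply, Matrix.diagonal_apply, id_eq]
      by_cases h : i = σ j
      · subst h; simp
      · rw [if_neg h, if_neg (fun h' => h (by rw [← h', Equiv.apply_symm_apply]))]
    rw [this, Matrix.det_permute, Matrix.det_diagonal, Equiv.Perm.sign_symm]
    have : ∏ y, d y = s := by simp [d]
    rw [this]
    exact hs
  have hd0 : ∀ y, d y ≠ 0 := fun y => by
    simp only [d]
    split_ifs
    · exact left_ne_zero_of_mul_eq_one hs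
    · exact one_ne_zero
  refine ⟨⟨M, hM⟩, fun x => d (f x), fun x => hd0 _, fun x a => ⟨?_, ?_⟩⟩
  swap
  · have hT : M.transpose *ᵥ (Pi.single (g x) ((d (f x))⁻¹ * a) : Fin N → F) = Pi.single (f x) a := by
      funext i
      rw [Matrix.mulVec, dotProduct, Finset.sum_eq_single (g x) (fun b _ hb => by rw [Pi.single_eq_of_ne hb, mul_zero])
        (fun hb => absurd (Finset.mem_univ _) hb), Pi.single_eq_same]
      show (if g x = σ i then d i else 0) * _ = _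
      rw [Pi.single_apply]
      by_cases hi : i = f x
      · subst hi; rw [if_pos (hσ x).symm, if_pos rfl, mul_inv_cancel_left₀ (hd0 _)]
      · rw [if_neg (fun hh => hi (σ.injective (hh.symm.trans (hσ x).symm))), if_neg hi, zero_mul]
    rw [smul_eq, ← hT, Matrix.mulVec_mulVec]
    have h1 : ∀ S : Matrix.SpecialLinearGroup (Fin N) F, (τ S).1 * S.1.transpose = 1 := fun S => by
      rw [τ_coe, ← Matrix.transpose_mul, ← Matrix.SpecialLinearGroup.coe_mul, mul_inv_cancel,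
        Matrix.SpecialLinearGroup.coe_one, Matrix.transpose_one]
    exact (congrArg (· *ᵥ _) (h1 (⟨M, hM⟩ : Matrix.SpecialLinearGroup (Fin N) F))).trans (Matrix.one_mulVec _)
  · funext i
    show (M *ᵥ Pi.single (f x) a) i = _
    rw [Matrix.mulVec, dotProduct, Finset.sum_eq_single (f x) (fun b _ hb => by rw [Pi.single_eq_of_ne hb, mul_zero])
      (fun hb => absurd (Finset.mem_univ _) hb), Pi.single_eq_same]
    show (if i = σ (f x) then d (f x) else 0) * a = _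
    rw [hσ, Pi.single_apply]
    split_ifs <;> simp

/-- The hypotheses at the fork. -/
structure SDat (te : Fin (p + 2)) (Ψ : SL[p + 2] →* G) (Φ : SL[3] →* G) : Prop where
  hp : 2 ≤ p
  te_ne : te ≠ PE ∧ te ≠ LA
  h01 : ∀ (h : te ≠ PE) (t : F), Ψ (tv h t) = Φ (x01 t)
  h10 : ∀ (h : PE ≠ te) (t : F), Ψ (tv h t) = Φ (x10 t)
  out : ∀ (i j : Fin (p + 2)) (h : i ≠ j), i ≠ PE → i ≠ LA → j ≠ PE → j ≠ LA → ∀ t u : F,
    Commute (Ψ (tv h t)) (Φ (x12 u)) ∧ Commute (Ψ (tv h t)) (Φ (x21 u))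
  pair : ∀ t u : F, Commute (Ψ (tv pe_ne_la t)) (Φ (x12 u)) ∧ Commute (Ψ (tv pe_ne_la.symm t)) (Φ (x12 u)) ∧
    Commute (Ψ (tv pe_ne_la t)) (Φ (x21 u)) ∧ Commute (Ψ (tv pe_ne_la.symm t)) (Φ (x21 u))

variable {te : Fin (p + 2)} {Ψ : Matrix.SpecialLinearGroup (Fin (p + 2)) F →* G}
  {Φ : Matrix.SpecialLinearGroup (Fin 3) F →* G}

theorem SDat.dual (d : SDat te Ψ Φ) : SDat te (Ψ.comp τ) (Φ.comp τ) where
  hp := d.hp
  te_ne := d.te_ne
  h01 h t := by simp only [MonoidHom.comp_apply, τ_tv, τ_x01]; exact d.h10 _ _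
  h10 h t := by simp only [MonoidHom.comp_apply, τ_tv, τ_x10]; exact d.h01 _ _
  out i j h h1 h2 h3 h4 t u := by
    simp only [MonoidHom.comp_apply, τ_tv, τ_x12, τ_x21]
    exact (d.out j i h.symm h3 h4 h1 h2 _ _).symm
  pair t u := by
    simp only [MonoidHom.comp_apply, τ_tv, τ_x12, τ_x21]
    exact ⟨(d.pair _ _).2.2.2, (d.pair _ _).2.2.1, (d.pair _ _).2.1, (d.pair _ _).1⟩

/-- The elements commuting with the fork root element. -/
def cU (Ψ : SL[p + 2] →* G) (Φ : SL[3] →* G) : Subgroup SL[p + 2] :=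
  (⨅ t : F, Subgroup.centralizer {Φ (x12 t)}).comap Ψ

theorem mem_cU {g : SL[p + 2]} : g ∈ cU Ψ Φ ↔ ∀ t : F, Commute (Φ (x12 t)) (Ψ g) := by
  simp [cU, Subgroup.mem_iInf, Subgroup.mem_centralizer_iff, Commute, SemiconjBy, eq_comm]

theorem SDat.pe_la_mem (d : SDat te Ψ Φ) (t : F) :
    tv pe_ne_la t ∈ cU Ψ Φ ∧ tv pe_ne_la.symm t ∈ cU Ψ Φ :=
  ⟨mem_cU.2 fun u => (d.pair t u).1.symm, mem_cU.2 fun u => (d.pair t u).2.1.symm⟩

theorem SDat.row_mem (d : SDat te Ψ Φ) {i j : Fin (p + 2)} (h : i ≠ j) (hj : j ≠ PE) (hj' : j ≠ LA) (t : F) :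
    tv h t ∈ cU Ψ Φ := by
  have hout : ∀ (i j : Fin (p + 2)) (h : i ≠ j), i ≠ PE → i ≠ LA → j ≠ PE → j ≠ LA → ∀ t,
      tv h t ∈ cU Ψ Φ := fun i j h a b c e t => mem_cU.2 fun u => (d.out i j h a b c e t u).1.symm
  have hbase : ∀ t, tv d.te_ne.1.symm t ∈ cU Ψ Φ := fun t => mem_cU.2 fun u => by
    rw [d.h10]
    exact ((x_commute one_ne_two3 zero_ne_one3.symm zero_ne_one3.symm (by decide) u t).map Φ)
  have hpe : ∀ (j : Fin (p + 2)) (h : PE ≠ j), j ≠ LA → ∀ t, tv h t ∈ cU Ψ Φ := by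
    intro j h hj t
    by_cases hte : j = te
    · subst hte; exact hbase t
    · have := Linear.transvection_mul_comm d.te_ne.1.symm (Ne.symm hte) h t 1
      rw [mul_one] at this
      rw [tv, ← this]
      exact commutatorElement_mem (hbase t) (hout _ _ _ d.te_ne.1 d.te_ne.2 h.symm hj 1)
  by_cases hi : i = PE
  · subst hi; exact hpe j h hj' t
  by_cases hi' : i = LA
  · subst hi'
    have := Linear.transvection_mul_comm pe_ne_la.symm (Ne.symm hj) h t 1
    rw [mul_one] at this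
    rw [tv, ← this]
    exact commutatorElement_mem (d.pe_la_mem t).2 (hpe j _ hj' 1)
  exact hout i j h hi hi' hj hj' t

theorem tS_low_mem {n : ℕ} {H : Subgroup SL[n + 1]} (r : Fin n → F)
    (hH : ∀ (j : Fin n) (t : F), (r j = 0 → t = 0) → tv (Fin.castSucc_ne_last j).symm t ∈ H) :
    AutPSL.tS (Pi.single (Fin.last n) 1 : Fin (n + 1) → F) (Fin.snoc r 0) ∈ H := by
  classical
  have hdot : ∀ r : Fin n → F, (Fin.snoc r 0 : Fin (n + 1) → F) ⬝ᵥ Pi.single (Fin.last n) 1 = 0 :=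
    fun r => by simp
  rw [← Finset.univ_sum_single r]
  refine Finset.sum_induction _
    (fun r => AutPSL.tS (Pi.single (Fin.last n) 1 : Fin (n + 1) → F) (Fin.snoc r 0) ∈ H) ?_ ?_ ?_
  · intro a b ha hb
    have : (Fin.snoc (a + b) 0 : Fin (n + 1) → F) = Fin.snoc a 0 + Fin.snoc b 0 := by
      funext x; induction x using Fin.lastCases <;> simp
    rw [this, AutPSL.tS_add (hdot a) (hdot b)]
    exact mul_mem ha hb
  · have : (Fin.snoc (0 : Fin n → F) 0 : Fin (n + 1) → F) = 0 := by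
      funext x; induction x using Fin.lastCases <;> simp
    rw [this, AutPSL.tS_zero]
    exact one_mem _
  intro j _
  rw [snoc_single, tS_single (Fin.castSucc_ne_last j).symm, one_mul]
  exact hH j _ id

theorem SDat.stab (d : SDat te Ψ Φ) {g : SL[p + 2]} (hpe : g • (Pi.single PE 1 : Vec) = Pi.single PE 1)
    (hla : g • (Pi.single LA 1 : Vec) = Pi.single LA 1) : g ∈ cU Ψ Φ := by
  obtain ⟨r, A, rfl⟩ := exists_low_mul_emb g hla
  have hd : (Fin.snoc r 0 : Vec) ⬝ᵥ Pi.single LA 1 = 0 := by simp [CurtisTitsA.la]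
  have hcol : emb A • (Pi.single PE 1 : Vec) =
      (Fin.snoc (A • (Pi.single (Fin.last p) 1 : Fin (p + 1) → F)) 0 : Vec) := by
    rw [CurtisTitsA.pe, ← snoc_single, emb_smul_snoc]
  set a := A • (Pi.single (Fin.last p) 1 : Fin (p + 1) → F) with ha
  have hg : (Fin.snoc a ((Fin.snoc r 0 : Vec) ⬝ᵥ Fin.snoc a 0) : Vec) = Pi.single PE 1 := by
    rw [← hpe, mul_smul, hcol]
    rw [smul_eq, AutPSL.tS_mulVec (by exact hd)]
    funext x
    induction x using Fin.lastCases <;> simp [CurtisTitsA.la, Fin.castSucc_ne_last]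
  have ha1 : a = Pi.single (Fin.last p) 1 := by
    funext x
    simpa [CurtisTitsA.pe, Pi.single_apply] using congrFun hg x.castSucc
  have hr : r (Fin.last p) = 0 := by
    have := congrFun hg (Fin.last (p + 1))
    rw [Fin.snoc_last, ha1] at this
    simpa [CurtisTitsA.pe, dotProduct, Fin.sum_univ_castSucc, Pi.single_apply, Fin.castSucc_ne_last,
      (Fin.castSucc_ne_last _).symm] using this
  refine mul_mem (tS_low_mem r fun j t ht => ?_) ?_
  · by_cases hj : j = Fin.last p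
    · subst hj
      rw [ht hr]
      simpa using one_mem (cU Ψ Φ)
    · exact d.row_mem _ (fun e => hj (Fin.castSucc_injective _ e)) (Fin.castSucc_ne_last j) t
  obtain ⟨r', B, rfl⟩ := exists_low_mul_emb A ha1
  rw [map_mul]
  refine mul_mem ?_ ?_
  · have : AutPSL.tS (Pi.single (Fin.last p) 1 : Fin (p + 1) → F) (Fin.snoc r' 0) ∈ (cU Ψ Φ).comap emb := by
      refine tS_low_mem r' fun j t _ => ?_
      rw [Subgroup.mem_comap, emb_tv]
      refine d.row_mem _ ?_ (Fin.castSucc_ne_last _) t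
      exact fun e => Fin.castSucc_ne_last j (Fin.castSucc_injective _ e)
    exact this
  · have : B ∈ Subgroup.closure (Linear.slTvSet (Fin p) F) := by
      rw [Linear.closure_slTvSet]; exact Subgroup.mem_top B
    suffices hle : Subgroup.closure (Linear.slTvSet (Fin p) F) ≤ ((cU Ψ Φ).comap emb).comap emb from hle this
    rw [Subgroup.closure_le]
    rintro _ ⟨i, j, h, t, rfl⟩
    show emb (emb (tv h t)) ∈ cU Ψ Φ
    rw [emb_tv, emb_tv]
    exact d.row_mem _ (fun e => Fin.castSucc_ne_last j (Fin.castSucc_injective _ e)) (Fin.castSucc_ne_last _) t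

open Classical in
/-- The value at the plane of v, w. -/
noncomputable def U2 (Ψ : SL[p + 2] →* G) (Φ : SL[3] →* G) (v w : Vec) : G :=
  if h : ∃ k : SL[p + 2], k • (Pi.single PE 1 : Vec) = v ∧ k • (Pi.single LA 1 : Vec) = w
    then Ψ h.choose * Φ (x12 1) * (Ψ h.choose)⁻¹ else 1

theorem SDat.U2_eq (d : SDat te Ψ Φ) {v w : Vec} {k : SL[p + 2]}
    (h1 : k • (Pi.single PE 1 : Vec) = v) (h2 : k • (Pi.single LA 1 : Vec) = w) :
    U2 Ψ Φ v w = Ψ k * Φ (x12 1) * (Ψ k)⁻¹ := by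
  have h : ∃ k : SL[p + 2], k • (Pi.single PE 1 : Vec) = v ∧ k • (Pi.single LA 1 : Vec) = w := ⟨k, h1, h2⟩
  rw [U2, dif_pos h]
  obtain ⟨e1, e2⟩ := h.choose_spec
  set k' := h.choose
  have hs : k⁻¹ * k' ∈ cU Ψ Φ := d.stab (by rw [mul_smul, e1, ← h1, inv_smul_smul])
    (by rw [mul_smul, e2, ← h2, inv_smul_smul])
  have := (mem_cU.1 hs 1).eq
  rw [map_mul, map_inv] at this
  calc Ψ k' * Φ (x12 1) * (Ψ k')⁻¹
      = Ψ k * (((Ψ k)⁻¹ * Ψ k') * Φ (x12 1)) * (Ψ k')⁻¹ := by group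
    _ = Ψ k * (Φ (x12 1) * ((Ψ k)⁻¹ * Ψ k')) * (Ψ k')⁻¹ := by rw [this]
    _ = _ := by group

theorem SDat.U2_conj (d : SDat te Ψ Φ) (g : SL[p + 2]) (v w : Vec) :
    Ψ g * U2 Ψ Φ v w * (Ψ g)⁻¹ = U2 Ψ Φ (g • v) (g • w) := by
  by_cases h : ∃ k : SL[p + 2], k • (Pi.single PE 1 : Vec) = v ∧ k • (Pi.single LA 1 : Vec) = w
  · obtain ⟨k, h1, h2⟩ := h
    rw [d.U2_eq h1 h2, d.U2_eq (k := g * k) (by rw [mul_smul, h1]) (by rw [mul_smul, h2]), map_mul]
    group
  · rw [U2, U2, dif_neg h, dif_neg]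
    · group
    rintro ⟨k, h1, h2⟩
    exact h ⟨g⁻¹ * k, by rw [mul_smul, h1, inv_smul_smul], by rw [mul_smul, h2, inv_smul_smul]⟩

theorem U2_zero_left (w : Vec) : U2 Ψ Φ (0 : Vec) w = 1 := by
  rw [U2, dif_neg]
  rintro ⟨k, h1, -⟩
  have := congrArg (k⁻¹ • ·) h1
  simp only [inv_smul_smul, smul_zero] at this
  simpa using congrFun this PE

theorem wd_fix {i j l : Fin (p + 2)} (h : i ≠ j) (c a : F) (hi : l ≠ i) (hj : l ≠ j) :
    (wd (fun t => tv h t) (fun t => tv h.symm t) c : SL[p + 2]) • (Pi.single l a : Vec) = Pi.single l a := by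
  simp only [wd, mul_smul, tv_smul_single, if_neg hi, if_neg hj, add_zero]

/-- The value at ε_a + ε_b. -/
noncomputable def VV (Ψ : SL[p + 2] →* G) (Φ : SL[3] →* G) (a b : Fin (p + 2)) (t : F) : G :=
  U2 Ψ Φ (Pi.single a t) (Pi.single b 1)

theorem SDat.Ψ_wd (d : SDat te Ψ Φ) (c : F) :
    Ψ (wd (fun t => tv d.te_ne.1 t) (fun t => tv d.te_ne.1.symm t) c) = Φ (wd x01 x10 c) := by
  simp only [wd, map_mul, d.h01, d.h10]

theorem SDat.U2_comb (d : SDat te Ψ Φ) (c s : F) :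
    U2 Ψ Φ (Pi.single te c + Pi.single PE s : Vec) (Pi.single LA 1) = Φ (x02 c * x12 s) := by
  obtain ⟨hte, hla⟩ := d.te_ne
  have hla' : LA ≠ te := hla.symm
  by_cases hc : c = 0
  · subst hc
    rw [Pi.single_zero, zero_add, show x02 (0 : F) = 1 from
      Matrix.SpecialLinearGroup.transvection_coeff_zero zero_ne_two3, one_mul]
    by_cases hs : s = 0
    · subst hs; rw [Pi.single_zero, U2_zero_left, x12_zero, map_one]
    have hs' : -s⁻¹ ≠ 0 := neg_ne_zero.2 (inv_ne_zero hs)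
    rw [d.U2_eq (k := wd (fun t => tv hte t) (fun t => tv hte.symm t) (-s⁻¹) *
      wd (fun t => tv hte t) (fun t => tv hte.symm t) 1)
      (by rw [mul_smul, wd_smul_la _ one_ne_zero, wd_smul_pe _ hs']; simp)
      (by rw [mul_smul, wd_fix _ _ _ hla' pe_ne_la.symm, wd_fix _ _ _ hla' pe_ne_la.symm])]
    rw [map_mul, d.Ψ_wd, d.Ψ_wd, ← map_mul, ← map_mul, sl3_scale hs, map_mul]
    group
  rw [d.U2_eq (k := tv hte.symm (s / c) * wd (fun t => tv hte t) (fun t => tv hte.symm t) c)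
    (by rw [mul_smul, wd_smul_la _ hc, tv_smul_single, if_pos rfl, mul_one, div_mul_cancel₀ s hc])
    (by rw [mul_smul, wd_fix _ _ _ hla' pe_ne_la.symm, tv_smul_single, if_neg hla', add_zero])]
  rw [map_mul, d.Ψ_wd, d.h10, ← map_mul, ← map_mul, sl3_shift hc, map_mul]
  group

theorem SDat.VV_base (d : SDat te Ψ Φ) (t : F) : VV Ψ Φ PE LA t = Φ (x12 t) := by
  have := d.U2_comb 0 t
  rwa [Pi.single_zero, zero_add, show x02 (0 : F) = 1 from
      Matrix.SpecialLinearGroup.transvection_coeff_zero zero_ne_two3, one_mul] at this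

theorem SDat.VV_te (d : SDat te Ψ Φ) (t : F) : VV Ψ Φ te LA t = Φ (x02 t) := by
  have := d.U2_comb t 0
  rwa [Pi.single_zero, add_zero, x12_zero, mul_one] at this

/-- Rescaling and turning the plane basis. -/
theorem SDat.U2_scale (d : SDat te Ψ Φ) (v w : Vec) {c : F} (hc : c ≠ 0) :
    U2 Ψ Φ v (c • w) = U2 Ψ Φ (c • v) w := by
  have key : ∀ (v w : Vec) (c : F), c ≠ 0 →
      (∃ k : SL[p + 2], k • (Pi.single PE 1 : Vec) = v ∧ k • (Pi.single LA 1 : Vec) = w) →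
      U2 Ψ Φ v w = U2 Ψ Φ (c • v) (c⁻¹ • w) := by
    rintro v w c hc ⟨k, h1, h2⟩
    set W := fun a : F => (wd (fun t => tv pe_ne_la t) (fun t => tv pe_ne_la.symm t) a : SL[p + 2])
    have hW : ∀ a, W a ∈ cU Ψ Φ := fun a =>
      mul_mem (mul_mem (d.pe_la_mem _).1 (d.pe_la_mem _).2) (d.pe_la_mem _).1
    have e1 : (W c * W (-1)) • (Pi.single PE 1 : Vec) = Pi.single PE c := by
      rw [mul_smul, wd_smul_pe _ (neg_ne_zero.2 one_ne_zero), wd_smul_la _ hc]; simp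
    have e2 : (W c * W (-1)) • (Pi.single LA 1 : Vec) = Pi.single LA c⁻¹ := by
      rw [mul_smul, wd_smul_la _ (neg_ne_zero.2 one_ne_zero), wd_smul_pe _ hc]; simp
    have hsp : ∀ (i : Fin (p + 2)) (a : F), (Pi.single i a : Vec) = a • Pi.single i 1 := fun i a => by
      rw [← Pi.single_smul', smul_eq_mul, mul_one]
    rw [d.U2_eq h1 h2, d.U2_eq (k := k * (W c * W (-1)))
      (by rw [mul_smul, e1, hsp, smul_comm, h1]) (by rw [mul_smul, e2, hsp, smul_comm, h2]), map_mul]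
    have := (mem_cU.1 (mul_mem (hW c) (hW (-1))) 1).eq
    calc Ψ k * Φ (x12 1) * (Ψ k)⁻¹
        = Ψ k * (Φ (x12 1) * Ψ (W c * W (-1))) * (Ψ (W c * W (-1)))⁻¹ * (Ψ k)⁻¹ := by group
      _ = Ψ k * (Ψ (W c * W (-1)) * Φ (x12 1)) * (Ψ (W c * W (-1)))⁻¹ * (Ψ k)⁻¹ := by rw [this]
      _ = _ := by group
  by_cases h : ∃ k : SL[p + 2], k • (Pi.single PE 1 : Vec) = v ∧ k • (Pi.single LA 1 : Vec) = c • w
  · rw [key v (c • w) c hc h, inv_smul_smul₀ hc]
  · rw [U2, dif_neg h]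
    by_cases h' : ∃ k : SL[p + 2], k • (Pi.single PE 1 : Vec) = c • v ∧ k • (Pi.single LA 1 : Vec) = w
    · exfalso
      apply h
      obtain ⟨k, h1, h2⟩ := h'
      set W := fun a : F => (wd (fun t => tv pe_ne_la t) (fun t => tv pe_ne_la.symm t) a : SL[p + 2])
      refine ⟨k * (W c⁻¹ * W (-1)), ?_, ?_⟩
      · rw [mul_smul, mul_smul, wd_smul_pe _ (neg_ne_zero.2 one_ne_zero), wd_smul_la _ (inv_ne_zero hc)]
        rw [show (Pi.single PE (c⁻¹ * (-(-1)⁻¹ * 1)) : Vec) = c⁻¹ • Pi.single PE 1 by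
          rw [← Pi.single_smul', smul_eq_mul]; simp, smul_comm, h1, inv_smul_smul₀ hc]
      · rw [mul_smul, mul_smul, wd_smul_la _ (neg_ne_zero.2 one_ne_zero), wd_smul_pe _ (inv_ne_zero hc)]
        rw [show (Pi.single LA (-c⁻¹⁻¹ * (-1 * 1)) : Vec) = c • Pi.single LA 1 by
          rw [← Pi.single_smul', smul_eq_mul]; simp, smul_comm, h2]
    · rw [U2, dif_neg h']

theorem SDat.U2_turn (d : SDat te Ψ Φ) {v w : Vec}
    (h : ∃ k : SL[p + 2], k • (Pi.single PE 1 : Vec) = v ∧ k • (Pi.single LA 1 : Vec) = w) :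
    U2 Ψ Φ v w = U2 Ψ Φ w (-v) := by
  obtain ⟨k, h1, h2⟩ := h
  set W := (wd (fun t => tv pe_ne_la t) (fun t => tv pe_ne_la.symm t) (-1 : F) : SL[p + 2])
  have hW : W ∈ cU Ψ Φ := mul_mem (mul_mem (d.pe_la_mem _).1 (d.pe_la_mem _).2) (d.pe_la_mem _).1
  have e1 : W • (Pi.single PE 1 : Vec) = Pi.single LA 1 := by
    rw [wd_smul_pe _ (neg_ne_zero.2 one_ne_zero)]; simp
  have e2 : W • (Pi.single LA 1 : Vec) = -Pi.single PE 1 := by
    rw [wd_smul_la _ (neg_ne_zero.2 one_ne_zero), ← Pi.single_neg]; simp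
  rw [d.U2_eq h1 h2, d.U2_eq (k := k * W) (by rw [mul_smul, e1, h2]) (by rw [mul_smul, e2, smul_neg, h1]),
    map_mul]
  have := (mem_cU.1 hW 1).eq
  calc Ψ k * Φ (x12 1) * (Ψ k)⁻¹
      = Ψ k * (Φ (x12 1) * Ψ W) * (Ψ W)⁻¹ * (Ψ k)⁻¹ := by group
    _ = Ψ k * (Ψ W * Φ (x12 1)) * (Ψ W)⁻¹ * (Ψ k)⁻¹ := by rw [this]
    _ = _ := by group

theorem inj3 {a b c : Fin (p + 2)} (h1 : a ≠ b) (h2 : a ≠ c) (h3 : b ≠ c) : Function.Injective ![a, b, c] := by
  intro x y
  fin_cases x <;> fin_cases y <;> simp [h1, h2, h3, h1.symm, h2.symm, h3.symm]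

theorem inj2 {a b : Fin (p + 2)} (h1 : a ≠ b) : Function.Injective ![a, b] := by
  intro x y
  fin_cases x <;> fin_cases y <;> simp [h1, h1.symm]

theorem SDat.exists_plane (d : SDat te Ψ Φ) {a b : Fin (p + 2)} (h : a ≠ b) {s : F} (hs : s ≠ 0) :
    ∃ k : SL[p + 2], k • (Pi.single PE 1 : Vec) = Pi.single a s ∧ k • (Pi.single LA 1 : Vec) = Pi.single b 1 := by
  obtain ⟨k, c, hc, hk⟩ := exists_monomial (F := F) ![PE, LA] ![a, b] (inj2 pe_ne_la) (inj2 h)
  obtain ⟨hte, hla⟩ := d.te_ne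
  have e0 := fun a => (hk 0 a).1; have e1 := fun a => (hk 1 a).1
  simp only [Matrix.cons_val_zero, Matrix.cons_val_one, Matrix.head_cons] at e0 e1
  have hcp : s / c 0 ≠ 0 := div_ne_zero hs (hc 0)
  have hcl : (c 1)⁻¹ ≠ 0 := inv_ne_zero (hc 1)
  -- diagonal elements on (te, pe) and on (te, la)
  refine ⟨k * (wd (fun t => tv hte t) (fun t => tv hte.symm t) (-(s / c 0)⁻¹) *
      wd (fun t => tv hte t) (fun t => tv hte.symm t) 1 *
      (wd (fun t => tv hla t) (fun t => tv hla.symm t) (-((c 1)⁻¹)⁻¹) *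
        wd (fun t => tv hla t) (fun t => tv hla.symm t) 1)), ?_, ?_⟩
  · rw [mul_smul, mul_smul, mul_smul, mul_smul, wd_fix _ _ _ hte.symm pe_ne_la, wd_fix _ _ _ hte.symm pe_ne_la,
      wd_smul_la _ one_ne_zero, wd_smul_pe _ (neg_ne_zero.2 (inv_ne_zero hcp)), e0]
    congr 1
    have := hc 0
    field_simp
  · rw [mul_smul, mul_smul, mul_smul, mul_smul, wd_smul_la _ one_ne_zero,
      wd_smul_pe _ (neg_ne_zero.2 (inv_ne_zero hcl)), wd_fix _ _ _ hla.symm pe_ne_la.symm,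
      wd_fix _ _ _ hla.symm pe_ne_la.symm, e1]
    congr 1
    have := hc 1
    field_simp

theorem SDat.U2_shear (d : SDat te Ψ Φ) {v w : Vec}
    (h : ∃ k : SL[p + 2], k • (Pi.single PE 1 : Vec) = v ∧ k • (Pi.single LA 1 : Vec) = w) (x : F) :
    U2 Ψ Φ (v + x • w) w = U2 Ψ Φ v w := by
  obtain ⟨k, h1, h2⟩ := h
  have e1 : (tv pe_ne_la.symm x : SL[p + 2]) • (Pi.single PE 1 : Vec) = Pi.single PE 1 + x • Pi.single LA 1 := by
    rw [tv_smul_single, if_pos rfl, ← Pi.single_smul', smul_eq_mul]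
  have e2 : (tv pe_ne_la.symm x : SL[p + 2]) • (Pi.single LA 1 : Vec) = Pi.single LA 1 := by
    rw [tv_smul_single, if_neg pe_ne_la.symm, add_zero]
  rw [d.U2_eq h1 h2, d.U2_eq (k := k * tv pe_ne_la.symm x)
    (by rw [mul_smul, e1, smul_add, smul_comm, h1, h2]) (by rw [mul_smul, e2, h2]), map_mul]
  have := (mem_cU.1 (d.pe_la_mem x).2 1).eq
  calc Ψ k * Ψ (tv pe_ne_la.symm x) * Φ (x12 1) * (Ψ k * Ψ (tv pe_ne_la.symm x))⁻¹
      = Ψ k * (Ψ (tv pe_ne_la.symm x) * Φ (x12 1)) * (Ψ (tv pe_ne_la.symm x))⁻¹ * (Ψ k)⁻¹ := by group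
    _ = Ψ k * (Φ (x12 1) * Ψ (tv pe_ne_la.symm x)) * (Ψ (tv pe_ne_la.symm x))⁻¹ * (Ψ k)⁻¹ := by rw [this]
    _ = _ := by group

theorem SDat.VV_swap (d : SDat te Ψ Φ) {a b : Fin (p + 2)} (h : a ≠ b) (t : F) :
    VV Ψ Φ b a t = VV Ψ Φ a b (-t) := by
  by_cases ht : t = 0
  · subst ht; simp [VV, U2_zero_left]
  rw [VV, VV, d.U2_turn (d.exists_plane h.symm ht), ← Pi.single_neg]
  have : (Pi.single b (-t) : Vec) = (-t) • Pi.single b 1 := by
    rw [← Pi.single_smul', smul_eq_mul, mul_one]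
  rw [this, d.U2_scale _ _ (neg_ne_zero.2 ht), ← Pi.single_smul', smul_eq_mul, mul_one]

theorem SDat.U2_single (d : SDat te Ψ Φ) (a b : Fin (p + 2)) (s c : F) (hc : c ≠ 0) :
    U2 Ψ Φ (Pi.single a s : Vec) (Pi.single b c) = VV Ψ Φ a b (c * s) := by
  rw [show (Pi.single b c : Vec) = c • Pi.single b 1 by rw [← Pi.single_smul', smul_eq_mul, mul_one],
    d.U2_scale _ _ hc, ← Pi.single_smul', smul_eq_mul, VV]

/-- Transport of a value by a monomial element. -/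
theorem SDat.VV_mono (d : SDat te Ψ Φ) {k : SL[p + 2]} {a b a' b' : Fin (p + 2)} {ca cb : F}
    (ha : ∀ x, k • (Pi.single a x : Vec) = Pi.single a' (ca * x))
    (hb : ∀ x, k • (Pi.single b x : Vec) = Pi.single b' (cb * x)) (hcb : cb ≠ 0) (t : F) :
    Ψ k * VV Ψ Φ a b t * (Ψ k)⁻¹ = VV Ψ Φ a' b' (cb * (ca * t)) := by
  rw [VV, d.U2_conj, ha, hb, mul_one, d.U2_single _ _ _ _ hcb]

theorem SDat.VV_add (d : SDat te Ψ Φ) {a b : Fin (p + 2)} (h : a ≠ b) (s t : F) :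
    VV Ψ Φ a b (s + t) = VV Ψ Φ a b s * VV Ψ Φ a b t := by
  obtain ⟨k, c, hc, hk⟩ := exists_monomial (F := F) ![PE, LA] ![a, b]
    (inj2 pe_ne_la) (inj2 h)
  have e : ∀ u, Ψ k * Φ (x12 u) * (Ψ k)⁻¹ = VV Ψ Φ a b (c 1 * (c 0 * u)) := fun u => by
    rw [← d.VV_base]; exact d.VV_mono (fun a => (hk 0 a).1) (fun a => (hk 1 a).1) (hc 1) u
  have e' : ∀ s, VV Ψ Φ a b s = Ψ k * Φ (x12 (s / (c 1 * c 0))) * (Ψ k)⁻¹ := fun s => by
    rw [e]; congr 1
    have := hc 0; have := hc 1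
    field_simp
  rw [e', e', e', add_div, x12_add, map_mul]
  group

theorem SDat.VV_split (d : SDat te Ψ Φ) {a b i : Fin (p + 2)} (hab : a ≠ b) (hia : i ≠ a) (hib : i ≠ b)
    (s t : F) : U2 Ψ Φ (Pi.single i s + Pi.single a t : Vec) (Pi.single b 1) =
      VV Ψ Φ i b s * VV Ψ Φ a b t := by
  obtain ⟨k, c, hc, hk⟩ := exists_monomial (F := F) ![te, PE, LA] ![i, a, b]
    (inj3 d.te_ne.1 d.te_ne.2 pe_ne_la) (inj3 hia hib hab)
  have h0 := hc 0; have h1 := hc 1; have h2 := hc 2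
  have key := congrArg (fun g => Ψ k * g * (Ψ k)⁻¹) (d.U2_comb (s / (c 2 * c 0)) (t / (c 2 * c 1)))
  try simp only at key
  rw [map_mul, ← d.VV_te, ← d.VV_base, d.U2_conj, smul_add] at key
  have e0 := fun a => (hk 0 a).1; have e1 := fun a => (hk 1 a).1; have e2 := fun a => (hk 2 a).1
  simp only [Matrix.cons_val_zero, Matrix.cons_val_one, Matrix.cons_val_two, Matrix.head_cons,
    Matrix.tail_cons] at e0 e1 e2
  rw [e0, e1, e2, mul_one,
    show Ψ k * (VV Ψ Φ te LA (s / (c 2 * c 0)) * VV Ψ Φ PE LA (t / (c 2 * c 1))) * (Ψ k)⁻¹ =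
      Ψ k * VV Ψ Φ te LA (s / (c 2 * c 0)) * (Ψ k)⁻¹ * (Ψ k * VV Ψ Φ PE LA (t / (c 2 * c 1)) * (Ψ k)⁻¹) by group,
    d.VV_mono e0 e2 h2, d.VV_mono e1 e2 h2,
    show (Pi.single b (c 2) : Vec) = c 2 • Pi.single b 1 by rw [← Pi.single_smul', smul_eq_mul, mul_one],
    d.U2_scale _ _ h2, smul_add, ← Pi.single_smul', ← Pi.single_smul', smul_eq_mul, smul_eq_mul] at key
  convert key using 2 <;> field_simp

/-- SL_n on the values: fixing. -/
theorem SDat.lin_fix (d : SDat te Ψ Φ) {i j a b : Fin (p + 2)} (h : i ≠ j) (ha : j ≠ a) (hb : j ≠ b)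
    (s t : F) : Commute (Ψ (tv h s)) (VV Ψ Φ a b t) := by
  show _ = _
  rw [← mul_inv_eq_iff_eq_mul, VV, d.U2_conj, tv_smul_single, if_neg (Ne.symm ha), tv_smul_single,
    if_neg (Ne.symm hb), add_zero, add_zero]

/-- SL_n on the values: moving. -/
theorem SDat.lin_move (d : SDat te Ψ Φ) {i a b : Fin (p + 2)} (h : i ≠ a) (hab : a ≠ b) (hib : i ≠ b)
    (s t : F) : ⁅Ψ (tv h s), VV Ψ Φ a b t⁆ = VV Ψ Φ i b (s * t) := by
  rw [commutatorElement_def, mul_inv_eq_iff_eq_mul, VV, d.U2_conj, tv_smul_single, if_pos rfl,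
    tv_smul_single, if_neg (Ne.symm hab), add_zero, add_comm, d.VV_split hab h hib]
  rfl

/-- SL_n on the values: inside the plane. -/
theorem SDat.lin_plane (d : SDat te Ψ Φ) {a b : Fin (p + 2)} (h : b ≠ a) (s t : F) :
    Commute (Ψ (tv h s)) (VV Ψ Φ a b t) := by
  show _ = _
  rw [← mul_inv_eq_iff_eq_mul, VV, d.U2_conj, tv_smul_single, if_pos rfl, tv_smul_single, if_neg h, add_zero]
  by_cases ht : t = 0
  · subst ht; simp
  · have := d.U2_shear (d.exists_plane (Ne.symm h) ht) (s * t)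
    rwa [← Pi.single_smul', smul_eq_mul, mul_one] at this

end Cfsg.Agent.CurtisTitsD
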