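/-
The Steinberg relations of type D_n for the fork values.

* `SDat.cross`, `SDat.cross_disjoint`, `SDat.VV_comm`.
* `DRels`: relations on signed indices; `SDat.drels`.
-/
import Cfsg.Agent.Lib.CurtisTitsD.Skew

set_option autoImplicit false

open Matrix
open scoped commutatorElement

namespace Cfsg.Agent.CurtisTitsD

open CurtisTitsA

variable {F : Type*} [Field F] {G : Type*} [Group G] {p : ℕ}

local notation "SL[" m "]" => Matrix.SpecialLinearGroup (Fin m) F
local notation "Vec" => (Fin (p + 2) → F)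
local notation "PE" => (CurtisTitsA.pe : Fin (p + 2))
local notation "LA" => (CurtisTitsA.la : Fin (p + 2))

variable {te : Fin (p + 2)} {Ψ : Matrix.SpecialLinearGroup (Fin (p + 2)) F →* G}
  {Φ : Matrix.SpecialLinearGroup (Fin 3) F →* G}

theorem conj_commutator {H : Type*} [Group H] (k a b : H) :
    k * ⁅a, b⁆ * k⁻¹ = ⁅k * a * k⁻¹, k * b * k⁻¹⁆ := conjugate_commutatorElement a b k

theorem inv_comm_swap {H : Type*} [Group H] (a b : H) : ⁅a, b⁆⁻¹ = ⁅b, a⁆ := commutatorElement_inv a b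

theorem SDat.VV_zero (d : SDat te Ψ Φ) (a b : Fin (p + 2)) : VV Ψ Φ a b 0 = 1 := by
  rw [VV, Pi.single_zero, U2_zero_left]

theorem SDat.VV_neg (d : SDat te Ψ Φ) {a b : Fin (p + 2)} (h : a ≠ b) (t : F) :
    VV Ψ Φ a b (-t) = (VV Ψ Φ a b t)⁻¹ :=
  eq_inv_of_mul_eq_one_left (by rw [← d.VV_add h, neg_add_cancel, d.VV_zero])

theorem SDat.tv_mono {k : SL[p + 2]} {a b a' b' : Fin (p + 2)} {ca cb : F} (h : a ≠ b) (h' : a' ≠ b')
    (ha : ∀ x, k • (Pi.single a x : Vec) = Pi.single a' (ca * x))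
    (hb : ∀ x, τ k • (Pi.single b x : Vec) = Pi.single b' (cb⁻¹ * x)) (t : F) :
    k * tv h t * k⁻¹ = tv h' (ca * t * cb⁻¹) := by
  rw [← mul_one t, ← tS_single h t 1, smul_tS _ (by simp [h]), ha, hb, tS_single h']
  congr 1
  ring

/-- Values at ε_i + ε_a and -ε_a - ε_j. -/
theorem SDat.cross (d : SDat te Ψ Φ) {i a j : Fin (p + 2)} (hia : i ≠ a) (hij : i ≠ j) (haj : a ≠ j)
    (t u : F) : ⁅VV Ψ Φ i a t, VV (Ψ.comp τ) (Φ.comp τ) a j u⁆ = Ψ (tv hij (t * u)) := by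
  have base : ∀ t u, ⁅VV Ψ Φ te LA t, VV (Ψ.comp τ) (Φ.comp τ) LA PE u⁆ = Ψ (tv d.te_ne.1 (t * u)) := by
    intro t u
    rw [d.VV_te, d.dual.VV_swap pe_ne_la, d.dual.VV_base, MonoidHom.comp_apply, τ_x12, neg_neg,
      ← map_commutatorElement, d.h01]
    congr 1
    exact Linear.transvection_mul_comm zero_ne_two3 one_ne_two3.symm zero_ne_one3 t u
  obtain ⟨k, c, hc, hk⟩ := exists_monomial (F := F) ![te, PE, LA] ![i, j, a]
    (inj3 d.te_ne.1 d.te_ne.2 pe_ne_la) (inj3 hij hia haj.symm)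
  have h0 := hc 0; have h1 := hc 1; have h2 := hc 2
  have e0 := fun x => (hk 0 x).1; have e1 := fun x => (hk 1 x).1; have e2 := fun x => (hk 2 x).1
  have f1 := fun x => (hk 1 x).2; have f2 := fun x => (hk 2 x).2
  simp only [Matrix.cons_val_zero, Matrix.cons_val_one, Matrix.cons_val_two, Matrix.head_cons,
    Matrix.tail_cons] at e0 e1 e2 f1 f2
  have key := congrArg (fun g => Ψ k * g * (Ψ k)⁻¹) (base (t / (c 2 * c 0)) (c 1 * (c 2 * u)))
  try simp only at key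
  rw [conj_commutator, d.VV_mono e0 e2 h2] at key
  have hdual : Ψ k * VV (Ψ.comp τ) (Φ.comp τ) LA PE (c 1 * (c 2 * u)) * (Ψ k)⁻¹ =
      VV (Ψ.comp τ) (Φ.comp τ) a j u := by
    have := d.dual.VV_mono (k := τ k) f2 f1 (inv_ne_zero h1) (c 1 * (c 2 * u))
    rw [MonoidHom.comp_apply, τ_τ] at this
    rw [this]; congr 1; field_simp
  rw [hdual, ← map_inv, ← map_mul, ← map_mul, SDat.tv_mono d.te_ne.1 hij e0 f1] at key
  convert key using 2
  · congr 1; field_simp
  · congr 1; field_simp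

theorem SDat.lin_move' (d : SDat te Ψ Φ) {i a b : Fin (p + 2)} (h : i ≠ b) (hab : a ≠ b) (hia : i ≠ a)
    (s t : F) : ⁅Ψ (tv h s), VV Ψ Φ a b t⁆ = VV Ψ Φ a i (s * t) := by
  rw [d.VV_swap hab.symm, d.lin_move h hab.symm hia, d.VV_swap hia.symm]
  congr 1; ring

/-- Values at ε_a + ε_b and -ε_c - ε_e for disjoint pairs. -/
theorem SDat.cross_disjoint (d : SDat te Ψ Φ) {a b c e : Fin (p + 2)} (hab : a ≠ b) (hce : c ≠ e)
    (hac : a ≠ c) (hae : a ≠ e) (hbc : b ≠ c) (hbe : b ≠ e) (t u : F) :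
    Commute (VV Ψ Φ a b t) (VV (Ψ.comp τ) (Φ.comp τ) c e u) := by
  -- V'(c,e) is a commutator of x_{b c} and V'(b,e)
  have hx : Commute (VV Ψ Φ a b t) (Ψ (tv hbc (-1 : F))) :=
    (d.lin_fix hbc (Ne.symm hac) (Ne.symm hbc) _ _).symm
  have hV : ⁅Ψ (tv hbc (-1 : F)), VV (Ψ.comp τ) (Φ.comp τ) b e u⁆ = VV (Ψ.comp τ) (Φ.comp τ) c e u := by
    have := d.dual.lin_move hbc.symm hbe hce 1 u
    rwa [MonoidHom.comp_apply, τ_tv, one_mul] at this
  rw [← hV]
  set X := VV Ψ Φ a b t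
  set Q := VV (Ψ.comp τ) (Φ.comp τ) b e u
  set x := Ψ (tv hbc (-1 : F))
  have hXQ : X * Q * X⁻¹ = Ψ (tv hae (t * u)) * Q := by
    rw [← d.cross hab hae hbe t u, commutatorElement_def]
    simp only [X, Q]
    group
  have hL1 : Commute x (Ψ (tv hae (t * u))) := (x_commute _ _ hbe (Ne.symm hac) _ _).map Ψ
  have hL2 : Commute (Ψ (tv hae (t * u))) (VV (Ψ.comp τ) (Φ.comp τ) c e u) := by
    have := d.dual.lin_fix (i := e) (j := a) (a := c) (b := e) (Ne.symm hae) hac hae (-(t * u)) u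
    rwa [MonoidHom.comp_apply, τ_tv, neg_neg] at this
  rw [← hV] at hL2
  set L := Ψ (tv hae (t * u))
  show X * ⁅x, Q⁆ = ⁅x, Q⁆ * X
  rw [← mul_inv_eq_iff_eq_mul, conj_commutator, show X * x * X⁻¹ = x by rw [hx.eq, mul_inv_cancel_right],
    hXQ, commutatorElement_def]
  calc x * (L * Q) * x⁻¹ * (L * Q)⁻¹ = (x * L) * Q * x⁻¹ * Q⁻¹ * L⁻¹ := by group
    _ = (L * x) * Q * x⁻¹ * Q⁻¹ * L⁻¹ := by rw [hL1.eq]
    _ = L * ⁅x, Q⁆ * L⁻¹ := by rw [commutatorElement_def]; group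
    _ = ⁅x, Q⁆ := by rw [hL2.eq, mul_inv_cancel_right]

theorem SDat.VV_comm_overlap (d : SDat te Ψ Φ) {i a b : Fin (p + 2)} (hia : i ≠ a) (hib : i ≠ b) (hab : a ≠ b)
    (s t : F) : Commute (VV Ψ Φ i b s) (VV Ψ Φ a b t) := by
  show _ = _
  rw [← d.VV_split hab hia hib, add_comm, d.VV_split hib hia.symm hab]

theorem SDat.VV_comm (d : SDat te Ψ Φ) {a b c e : Fin (p + 2)} (hab : a ≠ b) (hce : c ≠ e) (t u : F) :
    Commute (VV Ψ Φ a b t) (VV Ψ Φ c e u) := by
  have same : ∀ {a b : Fin (p + 2)}, a ≠ b → ∀ t u, Commute (VV Ψ Φ a b t) (VV Ψ Φ a b u) := fun h t u => by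
    show _ = _
    rw [← d.VV_add h, ← d.VV_add h, add_comm]
  have overl : ∀ {i a b : Fin (p + 2)}, i ≠ b → a ≠ b → ∀ s t, Commute (VV Ψ Φ i b s) (VV Ψ Φ a b t) := by
    intro i a b h1 h2 s t
    by_cases h : i = a
    · subst h; exact same h1 s t
    · exact d.VV_comm_overlap h h1 h2 s t
  by_cases hbe : b = e
  · subst hbe; exact overl hab hce t u
  by_cases hbc : b = c
  · subst hbc; rw [d.VV_swap hce.symm u]; exact overl hab hce.symm t _
  by_cases hae : a = e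
  · subst hae; rw [d.VV_swap hab.symm t]; exact overl hab.symm hce _ u
  by_cases hac : a = c
  · subst hac; rw [d.VV_swap hab.symm t, d.VV_swap hce.symm u]; exact overl hab.symm hce.symm _ _
  -- disjoint: conjugate two commuting elements of SL_n by the Weyl element of the fork
  -- with b, e in the place of the fork
  have hbe' : b ≠ e := hbe
  set X := VV Ψ Φ b e 1
  set Q := VV (Ψ.comp τ) (Φ.comp τ) b e 1
  set n := X * Q * X
  have step1 : ∀ s, n * Ψ (tv hae s) * n⁻¹ = VV Ψ Φ a b s := by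
    intro s
    have hm : ⁅Ψ (tv hae s), X⁆ = VV Ψ Φ b a s := by
      rw [d.lin_move' hae hbe' hab, mul_one]
    have e1 : X * Ψ (tv hae s) * X⁻¹ = VV Ψ Φ a b s * Ψ (tv hae s) := by
      rw [d.VV_swap hab.symm, d.VV_neg hab.symm, ← hm, inv_comm_swap, commutatorElement_def]
      group
    have hcr : ⁅VV Ψ Φ a b s, Q⁆ = Ψ (tv hae s) := by rw [d.cross hab hae hbe', mul_one]
    have hQL : Commute Q (Ψ (tv hae s)) := by
      have := d.dual.lin_fix (i := e) (j := a) (a := b) (b := e) (Ne.symm hae) hab hae (-s) 1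
      rw [MonoidHom.comp_apply, τ_tv, neg_neg] at this
      exact this.symm
    have hVL : Commute (VV Ψ Φ a b s) (Ψ (tv hae s)) :=
      (d.lin_fix hae (Ne.symm hae) (Ne.symm hbe') _ _).symm
    have hXV : Commute X (VV Ψ Φ a b s) := by
      rw [show X = VV Ψ Φ e b (-1) from d.VV_swap hbe'.symm 1]
      exact overl hbe'.symm hab _ _
    have e2 : Q * VV Ψ Φ a b s * Q⁻¹ = (Ψ (tv hae s))⁻¹ * VV Ψ Φ a b s := by
      rw [← hcr, inv_comm_swap, commutatorElement_def]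
      group
    calc n * Ψ (tv hae s) * n⁻¹ = X * (Q * (X * Ψ (tv hae s) * X⁻¹) * Q⁻¹) * X⁻¹ := by simp only [n]; group
      _ = X * (Q * VV Ψ Φ a b s * Q⁻¹ * (Q * Ψ (tv hae s) * Q⁻¹)) * X⁻¹ := by rw [e1]; group
      _ = X * ((Ψ (tv hae s))⁻¹ * VV Ψ Φ a b s * Ψ (tv hae s)) * X⁻¹ := by
        rw [e2, hQL.eq, mul_inv_cancel_right]
      _ = X * VV Ψ Φ a b s * X⁻¹ := by rw [mul_assoc _ (VV Ψ Φ a b s), hVL.eq, inv_mul_cancel_left]
      _ = _ := by rw [hXV.eq, mul_inv_cancel_right]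
  have hcb : c ≠ b := Ne.symm hbc
  have step2 : ∀ s, n * Ψ (tv hcb s) * n⁻¹ = VV Ψ Φ c e (-s) := by
    intro s
    have hm : ⁅Ψ (tv hcb s), X⁆ = VV Ψ Φ c e s := by rw [d.lin_move hcb hbe' hce, mul_one]
    have e1 : X * Ψ (tv hcb s) * X⁻¹ = VV Ψ Φ c e (-s) * Ψ (tv hcb s) := by
      rw [d.VV_neg hce, ← hm, inv_comm_swap, commutatorElement_def]
      group
    have hcr : ⁅VV Ψ Φ c e (-s), Q⁆ = Ψ (tv hcb s) := by
      rw [show Q = VV (Ψ.comp τ) (Φ.comp τ) e b (-1) from d.dual.VV_swap hbe'.symm 1,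
        d.cross hce hcb hbe'.symm]
      congr 1; congr 1; ring
    have hQL : Commute Q (Ψ (tv hcb s)) := by
      have := d.dual.lin_fix (i := b) (j := c) (a := b) (b := e) hcb.symm hcb hce (-s) 1
      rw [MonoidHom.comp_apply, τ_tv, neg_neg] at this
      exact this.symm
    have hVL : Commute (VV Ψ Φ c e (-s)) (Ψ (tv hcb s)) :=
      (d.lin_fix hcb hbc hbe' _ _).symm
    have hXV : Commute X (VV Ψ Φ c e (-s)) := overl hbe' hce _ _
    have e2 : Q * VV Ψ Φ c e (-s) * Q⁻¹ = (Ψ (tv hcb s))⁻¹ * VV Ψ Φ c e (-s) := by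
      rw [← hcr, inv_comm_swap, commutatorElement_def]
      group
    calc n * Ψ (tv hcb s) * n⁻¹ = X * (Q * (X * Ψ (tv hcb s) * X⁻¹) * Q⁻¹) * X⁻¹ := by simp only [n]; group
      _ = X * (Q * VV Ψ Φ c e (-s) * Q⁻¹ * (Q * Ψ (tv hcb s) * Q⁻¹)) * X⁻¹ := by rw [e1]; group
      _ = X * ((Ψ (tv hcb s))⁻¹ * VV Ψ Φ c e (-s) * Ψ (tv hcb s)) * X⁻¹ := by
        rw [e2, hQL.eq, mul_inv_cancel_right]
      _ = X * VV Ψ Φ c e (-s) * X⁻¹ := by rw [mul_assoc _ (VV Ψ Φ c e (-s)), hVL.eq, inv_mul_cancel_left]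
      _ = _ := by rw [hXV.eq, mul_inv_cancel_right]
  have h12 : Commute (Ψ (tv hae t)) (Ψ (tv hcb (-u))) :=
    (x_commute _ _ hab (Ne.symm hce) _ _).map Ψ
  have := h12.map (MulAut.conj n).toMonoidHom
  simp only [MulEquiv.coe_toMonoidHom, MulAut.conj_apply, step1, step2, neg_neg] at this
  exact this

/-! ## Signed indices -/

/-- The opposite signed index. -/
abbrev bar {N : ℕ} (a : Fin N ⊕ Fin N) : Fin N ⊕ Fin N := a.swap

/-- Admissible pairs. -/
def Adm {N : ℕ} (a b : Fin N ⊕ Fin N) : Prop := a ≠ b ∧ a ≠ bar b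

/-- Root values of type D_N with their relations. -/
structure DRels (F : Type*) [Field F] (G : Type*) [Group G] (N : ℕ) where
  R : Fin N ⊕ Fin N → Fin N ⊕ Fin N → F → G
  swap : ∀ a b t, Adm a b → R b a t = R a b (-t)
  add : ∀ a b t u, Adm a b → R a b (t + u) = R a b t * R a b u
  comm : ∀ a b c e t u, Adm a b → Adm c e → c ≠ bar a → c ≠ bar b → e ≠ bar a → e ≠ bar b →
    Commute (R a b t) (R c e u)
  comm' : ∀ a b t u, Adm a b → Commute (R a b t) (R (bar b) a u)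
  mid : ∀ a b e t u, Adm a b → Adm (bar b) e → Adm a e → ⁅R a b t, R (bar b) e u⁆ = R a e (t * u)

/-- The linear value at an ordered pair. -/
noncomputable def linv (Ψ : SL[p + 2] →* G) (a b : Fin (p + 2)) (t : F) : G :=
  if h : a = b then 1 else Ψ (tv h t)

theorem linv_eq {a b : Fin (p + 2)} (h : a ≠ b) (t : F) : linv Ψ a b t = Ψ (tv h t) := dif_neg h

/-- The values on signed indices. -/
noncomputable def RV (Ψ : SL[p + 2] →* G) (Φ : SL[3] →* G) :
    Fin (p + 2) ⊕ Fin (p + 2) → Fin (p + 2) ⊕ Fin (p + 2) → F → G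
  | .inl a, .inl b, t => VV Ψ Φ a b t
  | .inr a, .inr b, t => VV (Ψ.comp τ) (Φ.comp τ) a b t
  | .inl a, .inr b, t => linv Ψ a b t
  | .inr b, .inl a, t => linv Ψ a b (-t)

theorem tv_neg {ι : Type*} [Fintype ι] [DecidableEq ι] {i j : ι} (h : i ≠ j) (t : F) :
    (tv h (-t) : Matrix.SpecialLinearGroup ι F) = (tv h t)⁻¹ :=
  (Matrix.SpecialLinearGroup.transvection_inv h t).symm

theorem SDat.mid_lrl (d : SDat te Ψ Φ) (a b e : Fin (p + 2)) (hab : a ≠ b) (hbe : b ≠ e) (hae : a ≠ e)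
    (t u : F) : ⁅Ψ (tv hab t), VV Ψ Φ b e u⁆ = VV Ψ Φ a e (t * u) := d.lin_move hab hbe hae t u

theorem SDat.mid_lll (d : SDat te Ψ Φ) (a b e : Fin (p + 2)) (hab : a ≠ b) (heb : e ≠ b) (hae : a ≠ e)
    (t u : F) : ⁅VV Ψ Φ a b t, Ψ (tv heb (-u))⁆ = VV Ψ Φ a e (t * u) := by
  rw [← inv_comm_swap, d.lin_move' heb hab (Ne.symm hae), ← d.VV_neg hae]
  congr 1; ring

/-- The relations. -/
noncomputable def SDat.drels (d : SDat te Ψ Φ) : DRels F G (p + 2) where
  R := RV Ψ Φ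
  swap a b t h := by
    obtain ⟨h1, h2⟩ := h
    rcases a with a | a <;> rcases b with b | b <;> simp [RV] at h1 h2 ⊢
    · exact d.VV_swap h1 t
    · exact d.dual.VV_swap h1 t
  add a b t u h := by
    obtain ⟨h1, h2⟩ := h
    rcases a with a | a <;> rcases b with b | b <;> simp [RV] at h1 h2 ⊢
    · exact d.VV_add h1 t u
    · rw [linv_eq h2, linv_eq h2, linv_eq h2, ← map_mul]
      exact congrArg Ψ (Matrix.SpecialLinearGroup.transvection_add h2 t u)
    · rw [linv_eq (Ne.symm h2), linv_eq (Ne.symm h2), linv_eq (Ne.symm h2), ← map_mul, add_comm (-u) (-t)]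
      exact congrArg Ψ (Matrix.SpecialLinearGroup.transvection_add (Ne.symm h2) (-t) (-u))
    · exact d.dual.VV_add h1 t u
  comm a b c e t u hab hce h1 h2 h3 h4 := by
    obtain ⟨a1, a2⟩ := hab
    obtain ⟨c1, c2⟩ := hce
    have dl : ∀ {i j : Fin (p + 2)} (h : i ≠ j) {a b : Fin (p + 2)}, i ≠ a → i ≠ b → ∀ s t,
        Commute (Ψ (tv h s)) (VV (Ψ.comp τ) (Φ.comp τ) a b t) := by
      intro i j h a b ha hb s t
      have := d.dual.lin_fix (i := j) (j := i) h.symm ha hb (-s) t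
      rwa [MonoidHom.comp_apply, τ_tv, neg_neg] at this
    rcases a with a | a <;> rcases b with b | b <;> rcases c with c | c <;> rcases e with e | e <;>
      simp [RV, bar] at a1 a2 c1 c2 h1 h2 h3 h4 ⊢
    all_goals repeat rw [linv_eq (by first | assumption | exact Ne.symm (by assumption))]
    all_goals first
      | exact d.VV_comm (by tauto) (by tauto) _ _
      | exact d.dual.VV_comm (by tauto) (by tauto) _ _
      | exact d.cross_disjoint (by tauto) (by tauto) (by tauto) (by tauto) (by tauto) (by tauto) _ _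
      | exact (d.cross_disjoint (by tauto) (by tauto) (by tauto) (by tauto) (by tauto) (by tauto) _ _).symm
      | exact (x_commute _ _ (by tauto) (by tauto) _ _).map Ψ
      | exact d.lin_fix _ (by tauto) (by tauto) _ _
      | exact (d.lin_fix _ (by tauto) (by tauto) _ _).symm
      | exact dl _ (by tauto) (by tauto) _ _
      | exact (dl _ (by tauto) (by tauto) _ _).symm
  comm' a b t u h := by
    obtain ⟨a1, a2⟩ := h
    have dp : ∀ {a b : Fin (p + 2)} (h : a ≠ b) (s t : F),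
        Commute (Ψ (tv h s)) (VV (Ψ.comp τ) (Φ.comp τ) a b t) := by
      intro a b h s t
      have := d.dual.lin_plane (a := a) (b := b) h.symm (-s) t
      rwa [MonoidHom.comp_apply, τ_tv, neg_neg] at this
    rcases a with a | a <;> rcases b with b | b <;> simp [RV, bar] at a1 a2 ⊢
    · rw [linv_eq a1, d.VV_swap (Ne.symm a1) t]
      exact (d.lin_plane a1 _ _).symm
    · rw [linv_eq a2]
      exact d.lin_plane a2 _ _
    · rw [linv_eq (Ne.symm a2)]
      exact dp _ _ _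
    · rw [linv_eq (Ne.symm a1), d.dual.VV_swap (Ne.symm a1) t]
      exact (dp _ _ _).symm
  mid a b e t u h1 h2 h3 := by
    obtain ⟨a1, a2⟩ := h1
    obtain ⟨b1, b2⟩ := h2
    obtain ⟨c1, c2⟩ := h3
    rcases a with a | a <;> rcases b with b | b <;> rcases e with e | e <;>
      simp [RV, bar] at a1 a2 b1 b2 c1 c2 ⊢
    all_goals repeat rw [linv_eq (by first | assumption | exact Ne.symm (by assumption))]
    -- lll
    · exact d.mid_lll a b e a1 (Ne.symm b2) c1 t u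
    -- llr
    · exact d.cross a1 c2 b1 t u
    -- lrl
    · exact d.mid_lrl a b e a2 b1 c1 t u
    -- lrr
    · rw [← map_commutatorElement, Linear.transvection_mul_comm a2 b2 c2]
    -- rll
    · rw [← map_commutatorElement, ← inv_comm_swap,
        Linear.transvection_mul_comm (Ne.symm b2) (Ne.symm a2) (Ne.symm c2), ← tv_neg]
      congr 2; ring
    -- rlr
    · have := d.dual.mid_lrl a b e (Ne.symm a2).symm b1 c1 t u
      rwa [MonoidHom.comp_apply, τ_tv] at this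
    -- rrl
    · rw [← inv_comm_swap, d.dual.VV_swap (Ne.symm a1) t, d.VV_swap (Ne.symm b1) u,
        d.cross (Ne.symm b1) (Ne.symm c2) (Ne.symm a1), ← map_inv, ← tv_neg]
      congr 2; ring
    -- rrr
    · have := d.dual.mid_lll a b e a1 (Ne.symm b2) c1 t u
      rwa [MonoidHom.comp_apply, τ_tv, neg_neg] at this

end Cfsg.Agent.CurtisTitsD
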