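/-
The root values of type D_N in the orthogonal group of plus type, and SL_N inside any system of values.

* `ev`, `RO`, `orels`: the Eichler transformations are root values.
* `DRels.prod`: pairs of values.
* `DRels.exists_pat`: the homomorphism on SL_N of a choice of signs.
-/
import Cfsg.Agent.Lib.CurtisTitsD.Rels
import Cfsg.Agent.Lib.OrthAct.MaxClass
import Cfsg.Agent.S2401

set_option autoImplicit false

open Matrix
open QuadraticMap (polar)
open scoped commutatorElement

namespace Cfsg.Agent.CurtisTitsD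

open CurtisTitsA Cfsg.Agent.Orth
open Cfsg.Agent.OrthAct (quadPlus quadPlus_coe quadPlus_polar quadPlus_nondegenerate)

variable {F : Type*} [Field F] {N : ℕ}

local notation "SI" => (Fin N ⊕ Fin N)

theorem bar_bar (a : SI) : bar (bar a) = a := Sum.swap_swap a

theorem bar_ne (a : SI) : bar a ≠ a := by cases a <;> simp [bar]

theorem bar_inj {a b : SI} (h : bar a = bar b) : a = b := by
  rw [← bar_bar a, h, bar_bar]

theorem Adm.symm {a b : SI} (h : Adm a b) : Adm b a :=
  ⟨h.1.symm, fun e => h.2 (by rw [e, bar_bar])⟩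

theorem Adm.bars {a b : SI} (h : Adm a b) : Adm (bar a) (bar b) :=
  ⟨fun e => h.1 (bar_inj e), fun e => h.2 (by rw [bar_bar] at e; rw [← e, bar_bar])⟩

/-- The basis vectors. -/
def ev (F : Type*) [Field F] (a : SI) : SI → F := Pi.single a 1

theorem smul_ev_apply (t : F) (a x : SI) : (t • ev F a) x = if x = a then t else 0 := by
  simp [ev, Pi.single_apply]

theorem Q_ev (t : F) (a : SI) : quadPlus N F (t • ev F a) = 0 := by
  rw [quadPlus_coe]
  refine Finset.sum_eq_zero fun i _ => ?_
  rw [smul_ev_apply, smul_ev_apply]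
  split_ifs with h1 h2 <;> simp_all
  exact Sum.inr_ne_inl (h2.trans h1.symm) |>.elim

theorem Q_ev' (a : SI) : quadPlus N F (ev F a) = 0 := by simpa using Q_ev (F := F) 1 a

theorem polar_ev (a b : SI) : polar ⇑(quadPlus N F) (ev F a) (ev F b) = if b = bar a then 1 else 0 := by
  rw [quadPlus_polar]
  rcases a with i | i <;>
  · rw [Finset.sum_eq_single i (fun j _ hj => by simp [ev, hj]) (fun h => absurd (Finset.mem_univ _) h)]
    rcases b with j | j <;> simp [ev, Pi.single_apply, bar, eq_comm]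

theorem polar_ev_of_adm {a b : SI} (h : Adm a b) : polar ⇑(quadPlus N F) (ev F a) (ev F b) = 0 := by
  rw [polar_ev, if_neg]
  exact fun e => h.2 (by rw [e, bar_bar])

/-- The root values. -/
noncomputable def RO (F : Type*) [Field F] (a b : SI) (t : F) : IsoGrp (quadPlus N F) :=
  eich (quadPlus N F) (ev F b) (t • ev F a)

theorem RO_ap {a b : SI} (h : Adm a b) (t : F) (x : SI) :
    ap (RO F a b t) (ev F x) =
      ev F x + (if x = bar b then t • ev F a else 0) - if x = bar a then t • ev F b else 0 := by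
  rw [RO, eich_ap (Q_ev' b) (by rw [pl_smul_right, polar_ev_of_adm h.symm, mul_zero]), pl_smul_left,
    Q_ev, polar_ev, polar_ev, zero_mul, add_zero]
  congr 1
  · split_ifs <;> simp
  · split_ifs <;> simp

theorem RO_ap_fix {a b : SI} (h : Adm a b) (t : F) {x : SI} (ha : x ≠ bar a) (hb : x ≠ bar b) :
    ap (RO F a b t) (ev F x) = ev F x := by
  rw [RO_ap h, if_neg hb, if_neg ha, add_zero, sub_zero]

theorem RO_conj (a b c e : SI) (t u : F) :
    RO F a b t * RO F c e u * (RO F a b t)⁻¹ =
      eich (quadPlus N F) (ap (RO F a b t) (ev F e)) (u • ap (RO F a b t) (ev F c)) := by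
  rw [show RO F c e u = eich (quadPlus N F) (ev F e) (u • ev F c) from rfl, conj_eich, map_smul]

/-- The root values are a system. -/
noncomputable def orels : DRels F (IsoGrp (quadPlus N F)) N where
  R := RO F
  swap a b t h := by
    refine ext_ap fun x => ?_
    simp only [RO]
    rw [eich_ap (Q_ev' a) (by rw [pl_smul_right, polar_ev_of_adm h, mul_zero]),
      eich_ap (Q_ev' b) (by rw [pl_smul_right, polar_ev_of_adm h.symm, mul_zero]), Q_ev, Q_ev,
      pl_smul_left, pl_smul_left]
    module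
  add a b t u h := by
    have := fun s : F => show polar ⇑(quadPlus N F) (ev F b) (s • ev F a) = 0 by
      rw [pl_smul_right, polar_ev_of_adm h.symm, mul_zero]
    simp only [RO]
    rw [eich_add (Q_ev' b) (this t) (this u), add_smul]
  comm a b c e t u hab hce h1 h2 h3 h4 := by
    show _ = _
    rw [← mul_inv_eq_iff_eq_mul, RO_conj, RO_ap_fix hab t h3 h4, RO_ap_fix hab t h1 h2]
    rfl
  comm' a b t u h := by
    show _ = _
    rw [← mul_inv_eq_iff_eq_mul, RO_conj, RO_ap_fix h t (bar_ne a).symm h.2, RO_ap h, if_pos rfl,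
      if_neg (fun e => h.1 (bar_inj e.symm)), sub_zero, smul_add, smul_smul,
      eich_add_smul_self (Q_ev' a)]
    · rfl
    · rw [pl_smul_right, polar_ev, if_neg, mul_zero]
      exact fun e => h.1 (bar_inj e.symm)
  mid a b e t u h1 h2 h3 := by
    have hea : e ≠ bar a := fun x => h3.2 (by rw [x, bar_bar])
    have heb : e ≠ bar b := h2.1.symm
    have hp : ∀ (s : F) (y : SI), Adm e y → polar ⇑(quadPlus N F) (ev F e) (s • ev F y) = 0 :=
      fun s y hy => by rw [pl_smul_right, polar_ev_of_adm hy, mul_zero]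
    rw [commutatorElement_def, RO_conj, RO_ap_fix h1 t hea heb, RO_ap h1, if_pos rfl,
      if_neg (fun x => h1.1 (bar_inj x.symm)), sub_zero, smul_add, smul_smul,
      show RO F (bar b) e u = eich (quadPlus N F) (ev F e) (u • ev F (bar b)) from rfl, eich_inv,
      eich_add (Q_ev' e) (by rw [pl_add_right, hp _ _ h2.symm, hp _ _ h3.symm, add_zero])
        (by rw [← neg_smul]; exact hp _ _ h2.symm)]
    show _ = eich (quadPlus N F) (ev F e) ((t * u) • ev F a)
    congr 1
    module

/-- Pairs of values. -/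
def DRels.prod {G G' : Type*} [Group G] [Group G'] (D : DRels F G N) (D' : DRels F G' N) :
    DRels F (G × G') N where
  R a b t := (D.R a b t, D'.R a b t)
  swap a b t h := by rw [D.swap a b t h, D'.swap a b t h]
  add a b t u h := by rw [D.add a b t u h, D'.add a b t u h, Prod.mk_mul_mk]
  comm a b c e t u h h' h1 h2 h3 h4 :=
    (D.comm a b c e t u h h' h1 h2 h3 h4).prod (D'.comm a b c e t u h h' h1 h2 h3 h4)
  comm' a b t u h := (D.comm' a b t u h).prod (D'.comm' a b t u h)
  mid a b e t u h h' h'' := by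
    rw [← D.mid a b e t u h h' h'', ← D'.mid a b e t u h h' h'']
    rfl

variable {G : Type*} [Group G]

theorem DRels.zero (D : DRels F G N) {a b : SI} (h : Adm a b) : D.R a b 0 = 1 := by
  have := D.add a b 0 0 h
  rw [add_zero] at this
  exact left_eq_mul.1 this

theorem DRels.neg (D : DRels F G N) {a b : SI} (h : Adm a b) (t : F) : D.R a b (-t) = (D.R a b t)⁻¹ :=
  eq_inv_of_mul_eq_one_left (by rw [← D.add a b _ _ h, neg_add_cancel, D.zero h])

/-- The root value of a pair in SL_N, for a choice of signs. -/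
def patPair (s : Fin N → SI) (a b : Fin N) : SI × SI := (s a, bar (s b))

/-- A choice of signs. -/
def IsPat (s : Fin N → SI) : Prop := ∀ i, s i = Sum.inl i ∨ s i = Sum.inr i

theorem IsPat.ne {s : Fin N → SI} (hs : IsPat s) {a b : Fin N} (h : a ≠ b) :
    s a ≠ s b ∧ s a ≠ bar (s b) := by
  rcases hs a with e | e <;> rcases hs b with e' | e' <;> simp [e, e', bar, h]

theorem IsPat.adm {s : Fin N → SI} (hs : IsPat s) {a b : Fin N} (h : a ≠ b) : Adm (s a) (bar (s b)) :=
  ⟨(hs.ne h).2, by rw [bar_bar]; exact (hs.ne h).1⟩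

/-- The homomorphism on SL_N of a choice of signs. -/
theorem DRels.exists_pat [Finite F] (D : DRels F G N) (hN : 3 ≤ N) {s : Fin N → SI} (hs : IsPat s) :
    ∃ Ψ : Matrix.SpecialLinearGroup (Fin N) F →* G, ∀ (a b : Fin N) (h : a ≠ b) (t : F),
      Ψ (tv h t) = D.R (s a) (bar (s b)) t := by
  obtain ⟨e, he⟩ := S2401.result (K := F) N hN
  let f : {ij : Fin N × Fin N // ij.1 ≠ ij.2} × F → G :=
    fun x => D.R (s x.1.1.1) (bar (s x.1.1.2)) x.2
  have hrel : ∀ g ∈ ({g : FreeGroup ({ij : Fin N × Fin N // ij.1 ≠ ij.2} × F) | ∃ (a : {ij : Fin N × Fin N // ij.1 ≠ ij.2}) (t u : F),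
            g = FreeGroup.of (a, t) * FreeGroup.of (a, u) * (FreeGroup.of (a, t + u))⁻¹} ∪
          {g | ∃ (a b : {ij : Fin N × Fin N // ij.1 ≠ ij.2}) (t u : F), a.1.1 ≠ b.1.2 ∧ a.1.2 ≠ b.1.1 ∧
            g = FreeGroup.of (a, t) * FreeGroup.of (b, u) * (FreeGroup.of (a, t))⁻¹ * (FreeGroup.of (b, u))⁻¹} ∪
          {g | ∃ (a b : {ij : Fin N × Fin N // ij.1 ≠ ij.2}) (h : a.1.1 ≠ b.1.2) (t u : F), a.1.2 = b.1.1 ∧
            g = FreeGroup.of (a, t) * FreeGroup.of (b, u) * (FreeGroup.of (a, t))⁻¹ * (FreeGroup.of (b, u))⁻¹ *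
              (FreeGroup.of (⟨(a.1.1, b.1.2), h⟩, t * u))⁻¹}), FreeGroup.lift f g = 1 := by
    rintro g ((⟨a, t, u, rfl⟩ | ⟨a, b, t, u, h₁, h₂, rfl⟩) | ⟨a, b, h, t, u, h₁, rfl⟩)
    · simp only [map_mul, map_inv, FreeGroup.lift_apply_of, f, mul_inv_eq_one]
      exact (D.add _ _ t u (hs.adm a.2)).symm
    · simp only [map_mul, map_inv, FreeGroup.lift_apply_of, f]
      rw [← commutatorElement_def, commutatorElement_eq_one_iff_commute]
      refine D.comm _ _ _ _ t u (hs.adm a.2) (hs.adm b.2) ?_ ?_ ?_ ?_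
      · by_cases hab : b.1.1 = a.1.1
        · rw [hab]; exact (bar_ne _).symm
        · exact (hs.ne hab).2
      · rw [bar_bar]; exact (hs.ne (Ne.symm h₂)).1
      · exact fun e => (hs.ne h₁).1 (bar_inj e.symm)
      · rw [bar_bar]
        by_cases hab : b.1.2 = a.1.2
        · rw [hab]; exact bar_ne _
        · exact fun e => (hs.ne hab).2 (by rw [← e, bar_bar])
    · obtain ⟨⟨i, k⟩, hik⟩ := a
      obtain ⟨⟨k', j⟩, hkj⟩ := b
      dsimp only at h₁ h hik hkj
      subst h₁
      simp only [map_mul, map_inv, FreeGroup.lift_apply_of, f]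
      rw [mul_inv_eq_one, ← commutatorElement_def]
      have := D.mid (s i) (bar (s k)) (bar (s j)) t u (hs.adm hik) (by rw [bar_bar]; exact hs.adm hkj)
        (hs.adm h)
      rwa [bar_bar] at this
  refine ⟨(PresentedGroup.toGroup hrel).comp e.symm.toMonoidHom, fun a b h t => ?_⟩
  have h' : e.symm (tv h t) = PresentedGroup.of (⟨(a, b), h⟩, t) := by
    rw [MulEquiv.symm_apply_eq]
    exact Subtype.ext (he ⟨(a, b), h⟩ t).symm
  rw [MonoidHom.comp_apply, MulEquiv.coe_toMonoidHom, h']
  exact PresentedGroup.toGroup.of hrel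

end Cfsg.Agent.CurtisTitsD
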