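/-
The SL_2 of a pair of signed indices inside a system of values.

* `blk`: SL_2 in SL_N at two indices.
* `DRels.P`, `P_bar`, `P_ext`, `P_act0`, `P_act1`, `P_commute`, `P_range_commute`.
* `POver.ap_P`: its image in the orthogonal group.
-/
import Cfsg.Agent.Lib.CurtisTitsD.Model
import Cfsg.Agent.Lib.CurtisTitsA.Blocks

set_option autoImplicit false

open Matrix
open scoped commutatorElement

namespace Cfsg.Agent.CurtisTitsD

open CurtisTitsA Cfsg.Agent.Orth
open Cfsg.Agent.OrthAct (quadPlus)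

variable {F : Type*} [Field F] {N : ℕ}

local notation "SI" => (Fin N ⊕ Fin N)
local notation "SL2" => Matrix.SpecialLinearGroup (Fin 2) F

/-- SL_2 at two indices. -/
noncomputable def blk (a b : Fin N) (h : a ≠ b) : SL2 →* Matrix.SpecialLinearGroup (Fin N) F where
  toFun A := ⟨1 + Matrix.of (fun i k => if i = ![a, b] k then (1 : F) else 0) * (A.1 - 1) *
      (Matrix.of (fun i k => if i = ![a, b] k then (1 : F) else 0))ᵀ, by
    have hE : (Matrix.of (fun i k => if i = ![a, b] k then (1 : F) else 0))ᵀ *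
        Matrix.of (fun i k => if i = ![a, b] k then (1 : F) else 0) = (1 : Matrix (Fin 2) (Fin 2) F) := by
      ext k l
      rw [Matrix.mul_apply, Finset.sum_eq_single (![a, b] k) (fun j _ hj => by simp [hj]) (by simp)]
      fin_cases k <;> fin_cases l <;> simp [h, h.symm]
    rw [Matrix.mul_assoc, Matrix.det_one_add_mul_comm, Matrix.mul_assoc, hE, Matrix.mul_one,
      add_sub_cancel]
    exact A.2⟩
  map_one' := Subtype.ext (by simp)
  map_mul' A B := by
    apply Subtype.ext
    have hE : (Matrix.of (fun i k => if i = ![a, b] k then (1 : F) else 0))ᵀ *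
        Matrix.of (fun i k => if i = ![a, b] k then (1 : F) else 0) = (1 : Matrix (Fin 2) (Fin 2) F) := by
      ext k l
      rw [Matrix.mul_apply, Finset.sum_eq_single (![a, b] k) (fun j _ hj => by simp [hj]) (by simp)]
      fin_cases k <;> fin_cases l <;> simp [h, h.symm]
    set E : Matrix (Fin N) (Fin 2) F := Matrix.of (fun i k => if i = ![a, b] k then (1 : F) else 0)
    show 1 + E * ((A * B : SL2).1 - 1) * Eᵀ = (1 + E * (A.1 - 1) * Eᵀ) * (1 + E * (B.1 - 1) * Eᵀ)
    rw [Matrix.SpecialLinearGroup.coe_mul]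
    have hX : ∀ X Y : Matrix (Fin 2) (Fin 2) F, (E * X * Eᵀ) * (E * Y * Eᵀ) = E * (X * Y) * Eᵀ := by
      intro X Y
      simp only [Matrix.mul_assoc]
      rw [← Matrix.mul_assoc Eᵀ E, hE, Matrix.one_mul]
    rw [add_mul, one_mul, mul_add, mul_one, hX, ← add_assoc, add_assoc (1 : Matrix (Fin N) (Fin N) F)]
    rw [add_assoc (1 : Matrix (Fin N) (Fin N) F), ← Matrix.add_mul, ← Matrix.add_mul, ← Matrix.mul_add,
      ← Matrix.mul_add]
    congr 3
    noncomm_ring

theorem blk_smul {a b : Fin N} (h : a ≠ b) (A : SL2) (v : Fin N → F) :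
    blk a b h A • v = v + (Pi.single a ((A.1 0 0 - 1) * v a + A.1 0 1 * v b) : Fin N → F) +
      Pi.single b (A.1 1 0 * v a + (A.1 1 1 - 1) * v b) := by
  rw [smul_eq]
  show (1 + _ : Matrix (Fin N) (Fin N) F) *ᵥ v = _
  rw [Matrix.add_mulVec, Matrix.one_mulVec, ← Matrix.mulVec_mulVec, ← Matrix.mulVec_mulVec, add_assoc]
  congr 1
  have hT : (Matrix.of (fun i k => if i = ![a, b] k then (1 : F) else 0))ᵀ *ᵥ v = ![v a, v b] := by
    funext k
    rw [Matrix.mulVec, dotProduct, Finset.sum_eq_single (![a, b] k) (fun j _ hj => by simp [hj]) (by simp)]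
    fin_cases k <;> simp
  rw [hT]
  funext i
  simp [Matrix.mulVec, dotProduct, Fin.sum_univ_two, Matrix.one_apply, Pi.single_apply]

theorem sl_ext {ι : Type*} [Fintype ι] [DecidableEq ι] {A B : Matrix.SpecialLinearGroup ι F}
    (H : ∀ x, A • (Pi.single x 1 : ι → F) = B • Pi.single x 1) : A = B :=
  Subtype.ext (Matrix.ext_of_mulVec_single fun x => H x)

theorem blk_u {a b : Fin N} (h : a ≠ b) (t : F) : blk a b h (tv zero_ne_one2 t) = tv h t := by
  refine sl_ext fun x => ?_
  rw [blk_smul, tv_smul_single]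
  by_cases hx : x = b
  · subst hx; simp [tv_coe, Matrix.single_apply, h]
  · simp [tv_coe, Matrix.single_apply, hx, Ne.symm hx]

theorem blk_l {a b : Fin N} (h : a ≠ b) (t : F) : blk a b h (tv zero_ne_one2.symm t) = tv h.symm t := by
  refine sl_ext fun x => ?_
  rw [blk_smul, tv_smul_single]
  by_cases hx : x = a
  · subst hx; simp [tv_coe, Matrix.single_apply, h.symm]
  · simp [tv_coe, Matrix.single_apply, hx, Ne.symm hx]

theorem blk_conj_fst {a b c : Fin N} (h : a ≠ b) (ha : a ≠ c) (hb : b ≠ c) (A : SL2) (t : F) :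
    blk a b h A * tv ha t = tv ha (A.1 0 0 * t) * tv hb (A.1 1 0 * t) * blk a b h A := by
  refine sl_ext fun x => ?_
  have hc : ∀ y : F, blk a b h A • (Pi.single c y : Fin N → F) = Pi.single c y := by
    intro y; rw [blk_smul]; simp [ha, hb]
  simp only [mul_smul, tv_smul_single]
  by_cases hx : x = c
  · subst hx
    simp only [if_true, smul_add, hc, tv_smul_single, if_neg hb]
    rw [blk_smul]
    simp [h.symm]
    funext i
    simp [Pi.single_apply]
    split_ifs <;> subst_vars <;> simp_all <;> ring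
  · rw [if_neg hx, add_zero]
    have : blk a b h A • (Pi.single x 1 : Fin N → F) = Pi.single x 1 +
        Pi.single a ((A.1 0 0 - 1) * (Pi.single x 1 : Fin N → F) a + A.1 0 1 * (Pi.single x 1 : Fin N → F) b) +
        Pi.single b (A.1 1 0 * (Pi.single x 1 : Fin N → F) a + (A.1 1 1 - 1) * (Pi.single x 1 : Fin N → F) b) :=
      blk_smul h A _
    rw [this]
    simp only [smul_add, tv_smul_single, if_neg hx, if_neg ha, if_neg hb, add_zero]

theorem τ_blk {a b : Fin N} (h : a ≠ b) : τ.comp (blk (F := F) a b h) = (blk a b h).comp τ := by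
  refine MonoidHom.eq_of_eqOn_top ?_
  rw [← Linear.closure_slTvSet]
  refine MonoidHom.eqOn_closure ?_
  rintro _ ⟨i, j, hij, t, rfl⟩
  simp only [MonoidHom.comp_apply]
  rw [τ_tv]
  fin_cases i <;> fin_cases j <;> first | exact absurd rfl hij | skip
  · exact (congrArg τ (blk_u h t)).trans ((τ_tv h t).trans (blk_l h (-t)).symm)
  · exact (congrArg τ (blk_l h t)).trans ((τ_tv h.symm t).trans (blk_u h (-t)).symm)

theorem blk_conj_fst' {a b c : Fin N} (h : a ≠ b) (ha : a ≠ c) (hb : b ≠ c) (A : SL2) (t : F) :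
    blk a b h A * tv hb t = tv ha (A.1 0 1 * t) * tv hb (A.1 1 1 * t) * blk a b h A := by
  refine sl_ext fun x => ?_
  have hc : ∀ y : F, blk a b h A • (Pi.single c y : Fin N → F) = Pi.single c y := by
    intro y; rw [blk_smul]; simp [ha, hb]
  simp only [mul_smul, tv_smul_single]
  by_cases hx : x = c
  · subst hx
    simp only [if_true, smul_add, hc, tv_smul_single, if_neg hb]
    rw [blk_smul]
    simp [h]
    funext i
    simp [Pi.single_apply]
    split_ifs <;> subst_vars <;> simp_all <;> ring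
  · rw [if_neg hx, add_zero]
    have : blk a b h A • (Pi.single x 1 : Fin N → F) = Pi.single x 1 +
        Pi.single a ((A.1 0 0 - 1) * (Pi.single x 1 : Fin N → F) a + A.1 0 1 * (Pi.single x 1 : Fin N → F) b) +
        Pi.single b (A.1 1 0 * (Pi.single x 1 : Fin N → F) a + (A.1 1 1 - 1) * (Pi.single x 1 : Fin N → F) b) :=
      blk_smul h A _
    rw [this]
    simp only [smul_add, tv_smul_single, if_neg hx, if_neg ha, if_neg hb, add_zero]

/-! ## The SL_2 of a pair -/

variable {G : Type*} [Group G]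

theorem sl2_induction {p : SL2 → Prop} (h1 : p 1) (hm : ∀ A B, p A → p B → p (A * B))
    (hu : ∀ t, p (tv zero_ne_one2 t)) (hl : ∀ t, p (tv zero_ne_one2.symm t)) (A : SL2) : p A := by
  have hA : A ∈ Subgroup.closure (Linear.slTvSet (Fin 2) F) := by
    rw [Linear.closure_slTvSet]; exact Subgroup.mem_top A
  have hgen : ∀ g ∈ Linear.slTvSet (Fin 2) F, p g ∧ p g⁻¹ := by
    rintro _ ⟨i, j, hij, t, rfl⟩
    rw [Matrix.SpecialLinearGroup.transvection_inv]
    fin_cases i <;> fin_cases j <;> first | exact absurd rfl hij | skip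
    · exact ⟨hu t, hu (-t)⟩
    · exact ⟨hl t, hl (-t)⟩
  exact (Subgroup.closure_induction (p := fun g _ => p g ∧ p g⁻¹) hgen ⟨h1, by rwa [inv_one]⟩
    (fun a b _ _ ha hb => ⟨hm _ _ ha.1 hb.1, by rw [_root_.mul_inv_rev]; exact hm _ _ hb.2 ha.2⟩)
    (fun a _ ha => ⟨ha.2, by rw [inv_inv]; exact ha.1⟩) hA).1

theorem hom_ext2 {φ ψ : SL2 →* G} (hu : ∀ t, φ (tv zero_ne_one2 t) = ψ (tv zero_ne_one2 t))
    (hl : ∀ t, φ (tv zero_ne_one2.symm t) = ψ (tv zero_ne_one2.symm t)) : φ = ψ :=
  MonoidHom.ext (sl2_induction (p := fun A => φ A = ψ A) (by rw [map_one, map_one])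
    (fun A B a b => by rw [map_mul, map_mul, a, b]) hu hl)

theorem Adm.of_idx {a b : SI} (h : Sum.elim id id a ≠ Sum.elim id id b) : Adm a b :=
  ⟨fun e => h (by rw [e]), fun e => h (by rw [e]; cases b <;> rfl)⟩

theorem Adm.idx {a b : SI} (h : Adm a b) : Sum.elim id id a ≠ Sum.elim id id b := by
  obtain ⟨h1, h2⟩ := h
  cases a <;> cases b <;> simp_all [bar]

theorem idx_bar (a : SI) : Sum.elim id id (bar a) = Sum.elim id id a := by cases a <;> rfl

theorem eq_inl_or_inr (a : SI) : a = Sum.inl (Sum.elim id id a) ∨ a = Sum.inr (Sum.elim id id a) := by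
  cases a <;> simp

/-- A choice of signs through prescribed indices. -/
theorem exists_pat3 (x y k : SI) (hxy : Adm x y) (hxk : Adm x k) (hyk : Adm y k) :
    ∃ s : Fin N → SI, IsPat s ∧ s (Sum.elim id id x) = x ∧ s (Sum.elim id id y) = y ∧
      s (Sum.elim id id k) = bar k := by
  classical
  refine ⟨fun i => if i = Sum.elim id id x then x else if i = Sum.elim id id y then y else
    if i = Sum.elim id id k then bar k else Sum.inl i, fun i => ?_, ?_, ?_, ?_⟩
  · dsimp only
    split_ifs with h1 h2 h3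
    · rw [h1]; exact eq_inl_or_inr x
    · rw [h2]; exact eq_inl_or_inr y
    · rw [h3, ← idx_bar k]; exact eq_inl_or_inr _
    · exact Or.inl rfl
  · simp
  · simp [Ne.symm hxy.idx]
  · simp [Ne.symm hxk.idx, Ne.symm hyk.idx]

theorem exists_pat2 (x y : SI) (hxy : Adm x y) :
    ∃ s : Fin N → SI, IsPat s ∧ s (Sum.elim id id x) = x ∧ s (Sum.elim id id y) = y := by
  classical
  refine ⟨fun i => if i = Sum.elim id id x then x else if i = Sum.elim id id y then y else Sum.inl i,
    fun i => ?_, ?_, ?_⟩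
  · dsimp only
    split_ifs with h1 h2
    · rw [h1]; exact eq_inl_or_inr x
    · rw [h2]; exact eq_inl_or_inr y
    · exact Or.inl rfl
  · simp
  · simp [Ne.symm hxy.idx]

open Classical in
/-- The SL_2 of a pair. -/
noncomputable def DRels.P (D : DRels F G N) (x y : SI) : SL2 →* G :=
  if h : ∃ φ : SL2 →* G, ∀ t, φ (tv zero_ne_one2 t) = D.R x (bar y) t ∧
    φ (tv zero_ne_one2.symm t) = D.R y (bar x) t then h.choose else 1

theorem Adm.bar_right {a b : SI} (h : Adm a b) : Adm a (bar b) :=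
  ⟨h.2, by rw [bar_bar]; exact h.1⟩

theorem Adm.bar_left {a b : SI} (h : Adm a b) : Adm (bar a) b := (h.symm.bar_right).symm

variable [Finite F] {D : DRels F G N}

theorem DRels.P_spec (hN : 3 ≤ N) {x y : SI} (h : Adm x y) (t : F) :
    D.P x y (tv zero_ne_one2 t) = D.R x (bar y) t ∧
      D.P x y (tv zero_ne_one2.symm t) = D.R y (bar x) t := by
  have hex : ∃ φ : SL2 →* G, ∀ t, φ (tv zero_ne_one2 t) = D.R x (bar y) t ∧
      φ (tv zero_ne_one2.symm t) = D.R y (bar x) t := by
    obtain ⟨s, hs, e1, e2⟩ := exists_pat2 x y h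
    obtain ⟨Ψ, hΨ⟩ := D.exists_pat hN hs
    refine ⟨Ψ.comp (blk _ _ h.idx), fun t => ⟨?_, ?_⟩⟩
    · rw [MonoidHom.comp_apply, blk_u, hΨ, e1, e2]
    · rw [MonoidHom.comp_apply, blk_l, hΨ, e1, e2]
  rw [DRels.P, dif_pos hex]
  exact hex.choose_spec t

theorem DRels.P_ext (hN : 3 ≤ N) {x y : SI} (h : Adm x y) {φ : SL2 →* G}
    (hu : ∀ t, φ (tv zero_ne_one2 t) = D.R x (bar y) t)
    (hl : ∀ t, φ (tv zero_ne_one2.symm t) = D.R y (bar x) t) : φ = D.P x y :=
  hom_ext2 (fun t => by rw [hu, (D.P_spec hN h t).1]) (fun t => by rw [hl, (D.P_spec hN h t).2])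

theorem DRels.P_bar (hN : 3 ≤ N) {x y : SI} (h : Adm x y) (A : SL2) :
    D.P (bar x) (bar y) A = D.P x y (τ A) := by
  refine (DFunLike.congr_fun (D.P_ext (φ := (D.P x y).comp τ) hN h.bars (fun t => ?_) fun t => ?_) A).symm
  · rw [MonoidHom.comp_apply, τ_tv, (D.P_spec hN h _).2, bar_bar, D.swap y (bar x) t h.symm.bar_right]
  · rw [MonoidHom.comp_apply, τ_tv, (D.P_spec hN h _).1, bar_bar, D.swap x (bar y) t h.bar_right]

theorem DRels.P_act0 (hN : 3 ≤ N) {x y k : SI} (h : Adm x y) (hx : Adm x k) (hy : Adm y k) (A : SL2)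
    (t : F) : D.P x y A * D.R x k t * (D.P x y A)⁻¹ = D.R x k (A.1 0 0 * t) * D.R y k (A.1 1 0 * t) := by
  obtain ⟨s, hs, e1, e2, e3⟩ := exists_pat3 x y k h hx hy
  obtain ⟨Ψ, hΨ⟩ := D.exists_pat hN hs
  have hP : Ψ.comp (blk _ _ h.idx) = D.P x y := D.P_ext hN h
    (fun t => by rw [MonoidHom.comp_apply, blk_u, hΨ, e1, e2])
    (fun t => by rw [MonoidHom.comp_apply, blk_l, hΨ, e1, e2])
  have := congrArg Ψ (blk_conj_fst h.idx hx.idx hy.idx A t)
  rw [map_mul, map_mul, map_mul, hΨ, hΨ, hΨ, e1, e2, e3, bar_bar, ← MonoidHom.comp_apply, hP] at this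
  rw [this, mul_inv_cancel_right]

theorem DRels.P_act1 (hN : 3 ≤ N) {x y k : SI} (h : Adm x y) (hx : Adm x k) (hy : Adm y k) (A : SL2)
    (t : F) : D.P x y A * D.R y k t * (D.P x y A)⁻¹ = D.R x k (A.1 0 1 * t) * D.R y k (A.1 1 1 * t) := by
  obtain ⟨s, hs, e1, e2, e3⟩ := exists_pat3 x y k h hx hy
  obtain ⟨Ψ, hΨ⟩ := D.exists_pat hN hs
  have hP : Ψ.comp (blk _ _ h.idx) = D.P x y := D.P_ext hN h
    (fun t => by rw [MonoidHom.comp_apply, blk_u, hΨ, e1, e2])
    (fun t => by rw [MonoidHom.comp_apply, blk_l, hΨ, e1, e2])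
  have := congrArg Ψ (blk_conj_fst' h.idx hx.idx hy.idx A t)
  rw [map_mul, map_mul, map_mul, hΨ, hΨ, hΨ, e1, e2, e3, bar_bar, ← MonoidHom.comp_apply, hP] at this
  rw [this, mul_inv_cancel_right]

theorem DRels.P_mem (hN : 3 ≤ N) {x y : SI} (h : Adm x y) {H : Subgroup G}
    (h1 : ∀ t, D.R x (bar y) t ∈ H) (h2 : ∀ t, D.R y (bar x) t ∈ H) (A : SL2) : D.P x y A ∈ H :=
  sl2_induction (p := fun A => D.P x y A ∈ H) (by rw [map_one]; exact one_mem _)
    (fun A B a b => by rw [map_mul]; exact mul_mem a b)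
    (fun t => by rw [(D.P_spec hN h t).1]; exact h1 t) (fun t => by rw [(D.P_spec hN h t).2]; exact h2 t) A

theorem DRels.P_commute (hN : 3 ≤ N) {x y c e : SI} (h : Adm x y) (hce : Adm c e) (hxc : Adm x c)
    (hxe : Adm x e) (hyc : Adm y c) (hye : Adm y e) (A : SL2) (t : F) :
    Commute (D.P x y A) (D.R c e t) := by
  refine Subgroup.mem_centralizer_singleton_iff.1 (D.P_mem hN h (H := Subgroup.centralizer {D.R c e t})
    (fun u => Subgroup.mem_centralizer_singleton_iff.2 (D.comm x (bar y) c e u t h.bar_right hce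
      ?_ ?_ ?_ ?_).eq)
    (fun u => Subgroup.mem_centralizer_singleton_iff.2 (D.comm y (bar x) c e u t h.symm.bar_right hce
      ?_ ?_ ?_ ?_).eq) A)
  all_goals first
    | exact hxc.symm.2 | exact hxe.symm.2 | exact hyc.symm.2 | exact hye.symm.2
    | (rw [bar_bar]; first | exact hxc.1.symm | exact hxe.1.symm | exact hyc.1.symm | exact hye.1.symm)

/-- The two SL_2's on two indices commute. -/
theorem DRels.P_range_commute (hN : 3 ≤ N) {x y : SI} (h : Adm x y) (A B : SL2) :
    Commute (D.P x y A) (D.P x (bar y) B) := by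
  have key : ∀ t, Commute (D.P x (bar y) B) (D.R x (bar y) t) ∧ Commute (D.P x (bar y) B) (D.R y (bar x) t) := by
    intro t
    refine ⟨?_, ?_⟩ <;> refine Subgroup.mem_centralizer_singleton_iff.1 (D.P_mem hN h.bar_right
      (H := Subgroup.centralizer {_}) (fun u => ?_) (fun u => ?_) B) <;>
      rw [Subgroup.mem_centralizer_singleton_iff]
    · rw [bar_bar, ← neg_neg u, ← D.swap x y (-u) h]
      have := D.comm' x (bar y) t (-u) h.bar_right
      rw [bar_bar] at this
      exact this.symm.eq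
    · rw [show D.R x (bar y) t = D.R (bar y) x (-t) by
        rw [← neg_neg t, ← D.swap x (bar y) (-t) h.bar_right, neg_neg]]
      rw [show D.R (bar y) (bar x) u = D.R (bar x) (bar y) (-u) from D.swap _ _ _ h.bars]
      exact (D.comm' (bar y) x (-t) (-u) h.bar_right.symm).symm.eq
    · rw [bar_bar]
      have := D.comm' y (bar x) t u h.symm.bar_right
      rw [bar_bar] at this
      exact this.symm.eq
    · rw [show D.R y (bar x) t = D.R (bar x) y (-t) from D.swap _ _ _ h.bar_left]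
      exact (D.comm' (bar x) y (-t) u h.bar_left).symm.eq
  exact (Subgroup.mem_centralizer_singleton_iff.1 (D.P_mem hN h (H := Subgroup.centralizer {D.P x (bar y) B})
    (fun t => Subgroup.mem_centralizer_singleton_iff.2 (key t).1.symm.eq)
    (fun t => Subgroup.mem_centralizer_singleton_iff.2 (key t).2.symm.eq) A) :)

/-! ## The image in the orthogonal group -/

/-- The system lies over the orthogonal one. -/
def Over (D : DRels F G N) (π : G →* IsoGrp (quadPlus N F)) : Prop :=
  ∀ a b t, Adm a b → π (D.R a b t) = RO F a b t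

variable {π : G →* IsoGrp (quadPlus N F)}

theorem Over.ap_fix (hπ : Over D π) (hN : 3 ≤ N) {x y z : SI} (h : Adm x y) (hxz : Adm x z)
    (hyz : Adm y z) (A : SL2) : ap (π (D.P x y A)) (ev F z) = ev F z := by
  refine sl2_induction (p := fun A => ap (π (D.P x y A)) (ev F z) = ev F z) (by simp)
    (fun A B a b => by rw [map_mul, map_mul, ap_mul, b, a]) (fun t => ?_) (fun t => ?_) A
  · rw [(D.P_spec hN h t).1, hπ _ _ _ h.bar_right, RO_ap_fix h.bar_right t hxz.symm.2 (by rw [bar_bar]; exact hyz.1.symm)]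
  · rw [(D.P_spec hN h t).2, hπ _ _ _ h.symm.bar_right, RO_ap_fix h.symm.bar_right t hyz.symm.2 (by rw [bar_bar]; exact hxz.1.symm)]

theorem Over.ap_P (hπ : Over D π) (hN : 3 ≤ N) {x y : SI} (h : Adm x y) (A : SL2) :
    ap (π (D.P x y A)) (ev F x) = A.1 0 0 • ev F x + A.1 1 0 • ev F y ∧
      ap (π (D.P x y A)) (ev F y) = A.1 0 1 • ev F x + A.1 1 1 • ev F y := by
  refine sl2_induction (p := fun A => ap (π (D.P x y A)) (ev F x) = A.1 0 0 • ev F x + A.1 1 0 • ev F y ∧
      ap (π (D.P x y A)) (ev F y) = A.1 0 1 • ev F x + A.1 1 1 • ev F y) ?_ ?_ ?_ ?_ A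
  · simp [Matrix.one_apply]
  · intro A B ha hb
    simp only [map_mul, ap_mul, hb.1, hb.2, map_add, map_smul, ha.1, ha.2,
      Matrix.SpecialLinearGroup.coe_mul, Matrix.mul_apply, Fin.sum_univ_two]
    constructor <;> module
  · intro t
    rw [(D.P_spec hN h t).1, hπ _ _ _ h.bar_right, RO_ap h.bar_right, RO_ap h.bar_right]
    constructor
    · rw [if_neg (by rw [bar_bar]; exact h.1), if_neg (bar_ne x).symm]
      simp [tv_coe, Matrix.single_apply]
    · rw [if_pos (bar_bar y).symm, if_neg h.symm.2]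
      simp [tv_coe, Matrix.single_apply, add_comm]
  · intro t
    rw [(D.P_spec hN h t).2, hπ _ _ _ h.symm.bar_right, RO_ap h.symm.bar_right, RO_ap h.symm.bar_right]
    constructor
    · rw [if_pos (bar_bar x).symm, if_neg h.2]
      simp [tv_coe, Matrix.single_apply]
    · rw [if_neg (by rw [bar_bar]; exact h.1.symm), if_neg (bar_ne y).symm]
      simp [tv_coe, Matrix.single_apply, add_comm]

end Cfsg.Agent.CurtisTitsD
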