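/-
The radical of a point stabiliser inside a system of values over the orthogonal one.

* `Gam`: the values on the indices from j on.
* `qv`, `π_qv`, `qv_eq_one`, `qv_move`: the values at ε_b + ε_p as vectors.
* `exists_reduce`: moving a vector into the first plane.
-/
import Cfsg.Agent.Lib.CurtisTitsD.Pairs

set_option autoImplicit false

open Matrix
open QuadraticMap (polar)
open scoped commutatorElement

namespace Cfsg.Agent.CurtisTitsD

open CurtisTitsA Cfsg.Agent.Orth
open Cfsg.Agent.OrthAct (quadPlus quadPlus_polar)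

variable {F : Type*} [Field F] {N : ℕ}

local notation "SI" => (Fin N ⊕ Fin N)
local notation "QQ" => quadPlus N F

/-- The index of a signed index. -/
abbrev sx (a : SI) : Fin N := Sum.elim id id a

theorem polar_ev_left (a : SI) (v : SI → F) : polar ⇑QQ (ev F a) v = v (bar a) := by
  rw [quadPlus_polar]
  rcases a with i | i <;>
  · rw [Finset.sum_eq_single i (fun j _ hj => by simp [ev, hj]) (fun h => absurd (Finset.mem_univ _) h)]
    simp [ev, bar]

theorem RO_ap_vec {a b : SI} (h : Adm a b) (t : F) (v : SI → F) :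
    ap (RO F a b t) v = v + (t * v (bar b)) • ev F a - (t * v (bar a)) • ev F b := by
  rw [RO, eich_ap (Q_ev' b) (by rw [pl_smul_right, polar_ev_of_adm h.symm, mul_zero]), pl_smul_left,
    Q_ev, polar_ev_left, polar_ev_left, zero_mul, add_zero]
  module

variable {G : Type*} [Group G] (D : DRels F G N)

/-- The values on the indices from j on. -/
def Gam (j : ℕ) : Subgroup G :=
  Subgroup.closure {g | ∃ (a b : SI) (t : F), Adm a b ∧ j ≤ (sx a).val ∧ j ≤ (sx b).val ∧ g = D.R a b t}

theorem R_mem_Gam {j : ℕ} {a b : SI} (h : Adm a b) (ha : j ≤ (sx a).val) (hb : j ≤ (sx b).val) (t : F) :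
    D.R a b t ∈ Gam D j := Subgroup.subset_closure ⟨a, b, t, h, ha, hb, rfl⟩

/-- Membership in a normaliser, for an element of finite order. -/
theorem mem_normalizer_of {H : Subgroup G} {g : G} (hg : IsOfFinOrder g) (h : ∀ x ∈ H, g * x * g⁻¹ ∈ H) :
    g ∈ Subgroup.normalizer (H : Set G) := by
  have hk : ∀ (k : ℕ), ∀ x ∈ H, g ^ k * x * (g ^ k)⁻¹ ∈ H := by
    intro k
    induction k with
    | zero => intro x hx; simpa using hx
    | succ k ih => intro x hx; simpa [pow_succ', mul_assoc] using h _ (ih x hx)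
  refine Subgroup.mem_normalizer_iff.2 fun x => ⟨h x, fun hx => ?_⟩
  have e : g ^ (orderOf g - 1) * g = 1 := by
    rw [← pow_succ, Nat.sub_add_cancel hg.orderOf_pos, pow_orderOf_eq_one]
  have := hk (orderOf g - 1) _ hx
  rw [show g ^ (orderOf g - 1) = g⁻¹ from eq_inv_of_mul_eq_one_left e] at this
  simpa [mul_assoc] using this

/-- The values at a pair have finite order over a finite field. -/
theorem R_isOfFinOrder [Finite F] (D : DRels F G N) {a b : SI} (h : Adm a b) (t : F) :
    IsOfFinOrder (D.R a b t) :=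
  let φ : Multiplicative F →* G := MonoidHom.mk' (fun u => D.R a b u.toAdd) fun _ _ => D.add a b _ _ h
  φ.isOfFinOrder (isOfFinOrder_of_finite (Multiplicative.ofAdd t))

section Step

variable {D} (p : Fin N)

/-- The indices of the radical. -/
def InW (b : SI) : Prop := p.val < (sx b).val

instance (b : SI) : Decidable (InW p b) := Nat.decLt _ _

theorem InW.adm {p : Fin N} {b : SI} (h : InW p b) : Adm b (Sum.inl p) :=
  Adm.of_idx fun e => by
    have := congrArg Fin.val e
    simp [InW, sx] at h this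
    omega

/-- One radical root group. -/
noncomputable def qphi (D : DRels F G N) (p : Fin N) (b : SI) : Multiplicative F →* G :=
  if h : InW p b then
    MonoidHom.mk' (fun t => D.R b (Sum.inl p) (Multiplicative.toAdd t))
      (fun t u => by rw [toAdd_mul, D.add _ _ _ _ h.adm])
  else 1

theorem qphi_apply {b : SI} (h : InW p b) (t : Multiplicative F) :
    qphi D p b t = D.R b (Sum.inl p) (Multiplicative.toAdd t) := by rw [qphi, dif_pos h]; rfl

theorem qphi_off {b : SI} (h : ¬ InW p b) (t : Multiplicative F) : qphi D p b t = 1 := by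
  rw [qphi, dif_neg h]; rfl

theorem qphi_commute (D : DRels F G N) (p : Fin N) :
    Pairwise fun b b' : SI => ∀ t u, Commute (qphi D p b t) (qphi D p b' u) := by
  intro b b' _ t u
  by_cases h : InW p b
  swap
  · rw [qphi_off p h]; exact Commute.one_left _
  by_cases h' : InW p b'
  swap
  · rw [qphi_off p h']; exact Commute.one_right _
  rw [qphi_apply p h, qphi_apply p h']
  by_cases e : b' = bar b
  · subst e
    rw [D.swap (Sum.inl p) b _ h.adm.symm]
    exact D.comm' (Sum.inl p) b _ _ h.adm.symm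
  · refine D.comm b (Sum.inl p) b' (Sum.inl p) _ _ h.adm h'.adm e h'.adm.2 ?_ ?_
    · exact h.adm.symm.2
    · exact (bar_ne _).symm

open Classical in
/-- The radical as the image of a product of copies of F. -/
noncomputable def qh (D : DRels F G N) (p : Fin N) : (SI → Multiplicative F) →* G :=
  MonoidHom.noncommPiCoprod (qphi D p) (qphi_commute D p)

/-- The element of a vector. -/
noncomputable def qv (D : DRels F G N) (p : Fin N) (v : SI → F) : G :=
  qh D p fun b => Multiplicative.ofAdd (v b)

theorem qh_single (b : SI) (t : Multiplicative F) : qh D p (Pi.mulSingle b t) = qphi D p b t := by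
  classical exact MonoidHom.noncommPiCoprod_mulSingle (qphi D p) b t

theorem qh_induction {P : (SI → Multiplicative F) → Prop} (h1 : P 1) (hm : ∀ u w, P u → P w → P (u * w))
    (hs : ∀ b t, P (Pi.mulSingle b t)) (u : SI → Multiplicative F) : P u := by
  classical
  rw [← Finset.univ_prod_mulSingle u]
  exact Finset.prod_induction _ P hm h1 fun b _ => hs b (u b)

theorem qv_add (v w : SI → F) : qv D p (v + w) = qv D p v * qv D p w := by
  rw [qv, qv, qv, ← map_mul]; rfl

theorem qv_zero : qv D p (0 : SI → F) = 1 := by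
  show qh D p (fun _ => 1) = 1
  exact map_one _

theorem qv_mem (v : SI → F) : qv D p v ∈ (qh D p).range := ⟨_, rfl⟩

theorem exists_qv {g : G} (hg : g ∈ (qh D p).range) : ∃ v, g = qv D p v := by
  obtain ⟨u, rfl⟩ := hg
  exact ⟨fun b => Multiplicative.toAdd (u b), rfl⟩

theorem qv_single {b : SI} (h : InW p b) (t : F) : qv D p (Pi.single b t) = D.R b (Sum.inl p) t := by
  rw [qv, show (fun c => Multiplicative.ofAdd ((Pi.single b t : SI → F) c)) =
      Pi.mulSingle b (Multiplicative.ofAdd t) from funext fun c => by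
    by_cases hc : c = b
    · subst hc; simp
    · simp [hc]]
  rw [qh_single, qphi_apply p h]
  rfl

theorem R_mem_Q {b : SI} (h : InW p b) (t : F) : D.R b (Sum.inl p) t ∈ (qh D p).range :=
  by rw [← qv_single p h t]; exact qv_mem p _

theorem R_mem_Q' {b : SI} (h : InW p b) (t : F) : D.R (Sum.inl p) b t ∈ (qh D p).range := by
  rw [D.swap b (Sum.inl p) t h.adm]; exact R_mem_Q p h _

theorem Q_le {H : Subgroup G} (h : ∀ b, InW p b → ∀ t, D.R b (Sum.inl p) t ∈ H) : (qh D p).range ≤ H := by
  rintro _ ⟨u, rfl⟩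
  refine qh_induction (P := fun u => qh D p u ∈ H) (by rw [map_one]; exact one_mem _)
    (fun u w a b => by rw [map_mul]; exact mul_mem a b) (fun b t => ?_) u
  rw [qh_single]
  by_cases hb : InW p b
  · rw [qphi_apply p hb]; exact h b hb _
  · rw [qphi_off p hb]; exact one_mem _

theorem qh_eq_one {u : SI → Multiplicative F} (h : ∀ b, InW p b → u b = 1) : qh D p u = 1 := by
  classical
  rw [← Finset.univ_prod_mulSingle u]
  refine Finset.prod_induction _ (fun u => qh D p u = 1)
    (fun u w a b => by rw [map_mul, a, b, one_mul]) (map_one _) fun b _ => ?_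
  rw [qh_single]
  by_cases hb : InW p b
  · rw [h b hb, map_one]
  · exact qphi_off p hb _

/-- The restriction of a vector. -/
def res (v : SI → F) : SI → F := fun b => if InW p b then v b else 0

theorem res_fix {v : SI → F} (h : ∀ x : SI, ¬ InW p x → v x = 0) : res p v = v := by
  funext b; simp only [res]; split_ifs with hb
  · rfl
  · rw [h b hb]

theorem not_InW_p : ¬ InW p (Sum.inl p) ∧ ¬ InW p (Sum.inr p) := by simp [InW]

theorem polar_res (v : SI → F) : polar ⇑QQ (ev F (Sum.inl p)) (res p v) = 0 := by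
  rw [polar_ev_left]
  exact if_neg (not_InW_p p).2

variable {π : G →* IsoGrp (quadPlus N F)}

theorem Over.π_qv (hπ : Over D π) (v : SI → F) :
    π (qv D p v) = eich QQ (ev F (Sum.inl p)) (res p v) := by
  refine qh_induction (P := fun u => π (qh D p u) =
    eich QQ (ev F (Sum.inl p)) (res p fun b => Multiplicative.toAdd (u b))) ?_ ?_ ?_
    (fun b => Multiplicative.ofAdd (v b))
  · rw [map_one, map_one, res_fix p (v := fun b => Multiplicative.toAdd ((1 : SI → Multiplicative F) b))
      (fun _ _ => rfl)]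
    exact (eich_zero _).symm
  · intro u w a b
    rw [map_mul, map_mul, a, b, eich_add (Q_ev' _) (polar_res p _) (polar_res p _)]
    congr 1
    funext c
    simp only [res, Pi.add_apply]
    split_ifs <;> simp
  · intro b t
    rw [qh_single]
    by_cases hb : InW p b
    · rw [qphi_apply p hb, hπ _ _ _ hb.adm, RO]
      congr 1
      funext c
      by_cases hc : c = b
      · subst hc; simp [res, hb, ev]
      · simp [res, hc, ev]
    · rw [qphi_off p hb, map_one, ← eich_zero (Q := QQ) (ev F (Sum.inl p))]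
      congr 1
      funext c
      by_cases hc : c = b
      · subst hc; simp [res, hb]
      · simp [res, hc]

theorem Over.qv_ap_f (hπ : Over D π) (v : SI → F) :
    ap (π (qv D p v)) (ev F (Sum.inr p)) =
      ev F (Sum.inr p) + res p v - QQ (res p v) • ev F (Sum.inl p) := by
  rw [hπ.π_qv, eich_ap (Q_ev' _) (polar_res p v), polar_ev,
    if_pos (show (Sum.inr p : SI) = bar (Sum.inl p) from rfl), one_smul,
    pl_comm QQ (res p v), polar_ev_left, mul_one]
  rw [show res p v (bar (Sum.inr p)) = 0 from if_neg (not_InW_p p).1, zero_add]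

theorem Over.qv_ap_e (hπ : Over D π) (v : SI → F) :
    ap (π (qv D p v)) (ev F (Sum.inl p)) = ev F (Sum.inl p) := by
  rw [hπ.π_qv, eich_ap (Q_ev' _) (polar_res p v), polar_ev,
    if_neg (by simp [bar]), pl_comm QQ (res p v), polar_res]
  simp

theorem Over.qv_eq_one (hπ : Over D π) {v : SI → F}
    (h : ap (π (qv D p v)) (ev F (Sum.inr p)) = ev F (Sum.inr p)) : qv D p v = 1 := by
  rw [hπ.qv_ap_f] at h
  refine qh_eq_one p fun b hb => ?_
  have := congrFun h b
  have h1 : b ≠ Sum.inl p := fun e => (not_InW_p p).1 (e ▸ hb)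
  simp [ev, res, hb, h1] at this
  rw [this]; rfl

/-- The stabiliser of the smaller indices. -/
theorem Over.Gam_fix (hπ : Over D π) {j : ℕ} {g : G} (hg : g ∈ Gam D j) {x : SI} (hx : (sx x).val < j) :
    ap (π g) (ev F x) = ev F x := by
  induction hg using Subgroup.closure_induction with
  | one => simp
  | mul a b _ _ ha hb => rw [map_mul, ap_mul, hb, ha]
  | inv a _ ha => rw [map_inv]; nth_rewrite 1 [← ha]; rw [ap_inv_ap]
  | mem a ha =>
    obtain ⟨a, b, t, h, h1, h2, rfl⟩ := ha
    rw [hπ _ _ _ h, RO_ap_fix h]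
    · exact fun e => by rw [e, sx, idx_bar] at hx; exact absurd h1 (not_le.2 hx)
    · exact fun e => by rw [e, sx, idx_bar] at hx; exact absurd h2 (not_le.2 hx)

theorem Over.Gam_coord (hπ : Over D π) {j : ℕ} {g : G} (hg : g ∈ Gam D j) {x : SI}
    (hx : (sx x).val < j) (v : SI → F) : ap (π g) v x = v x := by
  have h : polar ⇑QQ (ap (π g) (ev F (bar x))) (ap (π g) v) = polar ⇑QQ (ev F (bar x)) v := polar_ap _ _ _
  rw [hπ.Gam_fix hg (x := bar x) (by rw [sx, idx_bar]; exact hx), polar_ev_left, polar_ev_left, bar_bar] at h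
  exact h

variable [Finite F]

theorem Gam_le_normalizer :
    Gam D (p.val + 1) ≤ Subgroup.normalizer ((qh D p).range : Set G) := by
  refine (Subgroup.closure_le _).2 ?_
  rintro _ ⟨c, d, s, hcd, hc, hd, rfl⟩
  refine mem_normalizer_of (R_isOfFinOrder D hcd s) fun q hq => ?_
  suffices hle : (qh D p).range ≤ ((qh D p).range).comap (MulAut.conj (D.R c d s)).toMonoidHom from hle hq
  refine Q_le p fun b hb t => ?_
  show D.R c d s * D.R b (Sum.inl p) t * (D.R c d s)⁻¹ ∈ (qh D p).range
  have key : ∀ (c d : SI) (s : F), Adm c d → p.val + 1 ≤ (sx c).val → d = bar b →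
      D.R c d s * D.R b (Sum.inl p) t * (D.R c d s)⁻¹ ∈ (qh D p).range := by
    rintro c d s hcd hc rfl
    have hcW : InW p c := hc
    have hm := D.mid c (bar b) (Sum.inl p) s t hcd (by rw [bar_bar]; exact hb.adm) hcW.adm
    rw [bar_bar, commutatorElement_def] at hm
    rw [mul_inv_eq_iff_eq_mul.1 hm]
    exact mul_mem (R_mem_Q p hcW _) (R_mem_Q p hb _)
  by_cases h1 : d = bar b
  · exact key c d s hcd hc h1
  by_cases h2 : c = bar b
  · rw [D.swap d c s hcd.symm]
    exact key d c _ hcd.symm hd h2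
  have hne : ∀ e : SI, p.val + 1 ≤ (sx e).val → (Sum.inl p : SI) ≠ bar e := fun e he e' => by
    have := congrArg sx e'
    simp only [sx, idx_bar, Sum.elim_inl, id_eq] at this
    exact absurd he (by rw [sx, ← this]; omega)
  have := D.comm c d b (Sum.inl p) s t hcd hb.adm (fun e => h2 (by rw [e, bar_bar]))
    (fun e => h1 (by rw [e, bar_bar])) (hne c hc) (hne d hd)
  rw [this.eq, mul_inv_cancel_right]
  exact R_mem_Q p hb t

theorem Over.qv_move (hπ : Over D π) {m : G} (hm : m ∈ Gam D (p.val + 1)) {v : SI → F}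
    (hv : ∀ x : SI, ¬ InW p x → v x = 0) :
    m * qv D p v * m⁻¹ = qv D p (ap (π m) v) ∧ ∀ x : SI, ¬ InW p x → ap (π m) v x = 0 := by
  have hw : ∀ x : SI, ¬ InW p x → ap (π m) v x = 0 := fun x hx => by
    rw [hπ.Gam_coord hm (by simp [InW] at hx; omega), hv x hx]
  refine ⟨?_, hw⟩
  obtain ⟨v', hv'⟩ := exists_qv p ((Subgroup.mem_normalizer_iff.1 (Gam_le_normalizer p hm) _).1 (qv_mem p v))
  rw [hv']
  have h1 : π (qv D p v') = π (qv D p (ap (π m) v)) := by
    rw [← hv', map_mul, map_mul, map_inv, hπ.π_qv, hπ.π_qv, conj_eich,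
      hπ.Gam_fix hm (by simp), res_fix p hv, res_fix p hw]
  have h2 : qv D p (v' - ap (π m) v) * qv D p (ap (π m) v) = qv D p v' := by
    rw [← qv_add, sub_add_cancel]
  have h3 : π (qv D p (v' - ap (π m) v)) = 1 := by
    have := congrArg π h2
    rw [map_mul, h1] at this
    exact mul_eq_right.1 this
  rw [← h2, hπ.qv_eq_one p (by rw [h3, ap_one]), one_mul]

theorem Over.exists_reduce (hπ : Over D π) {r : Fin N} (hr : r.val = p.val + 1) (v : SI → F) :
    ∃ m ∈ Gam D (p.val + 1), ∀ x : SI, r.val < (sx x).val → ap (π m) v x = 0 := by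
  classical
  have hM : ∀ (a b : SI) (t : F), Adm a b → p.val < (sx a).val → p.val < (sx b).val →
      D.R a b t ∈ Gam D (p.val + 1) := fun a b t h ha hb => R_mem_Gam D h ha hb t
  have kill : ∀ (Z : Finset SI) (v : SI → F), v (Sum.inr r) ≠ 0 → (∀ z ∈ Z, r.val < (sx z).val) →
      ∃ m ∈ Gam D (p.val + 1), ap (π m) v (Sum.inr r) = v (Sum.inr r) ∧ ∀ z ∈ Z, ap (π m) v z = 0 := by
    intro Z
    induction Z using Finset.induction_on with
    | empty => exact fun v _ _ => ⟨1, one_mem _, by simp, by simp⟩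
    | insert b Z hb ih =>
      intro v hv hZ
      obtain ⟨m, hm, h1, h2⟩ := ih v hv fun z hz => hZ z (Finset.mem_insert_of_mem hz)
      have hbr := hZ b (Finset.mem_insert_self b Z)
      have hne : ∀ z : SI, r.val < (sx z).val → z ≠ Sum.inl r ∧ z ≠ Sum.inr r := fun z hz =>
        ⟨fun e => by simp [e] at hz, fun e => by simp [e] at hz⟩
      have hadm : Adm (Sum.inl r) b := Adm.of_idx fun e => by
        have := congrArg Fin.val e; simp [sx] at this hbr; omega
      set s := ap (π m) v b / v (Sum.inr r)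
      refine ⟨D.R (Sum.inl r) b s * m, mul_mem (hM _ _ _ hadm (by simp; omega) (by omega)) hm, ?_, ?_⟩
      · rw [map_mul, ap_mul, hπ _ _ _ hadm, RO_ap_vec hadm]
        simp [ev, h1, Ne.symm (hne b hbr).2]
      · intro z hz
        rw [map_mul, ap_mul, hπ _ _ _ hadm, RO_ap_vec hadm]
        have hz' := hne z (hZ z hz)
        simp only [Pi.add_apply, Pi.sub_apply, Pi.smul_apply, ev, Pi.single_eq_of_ne hz'.1, smul_eq_mul,
          mul_zero, add_zero]
        rw [show bar (Sum.inl r : SI) = Sum.inr r from rfl, h1]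
        rcases Finset.mem_insert.1 hz with rfl | hzZ
        · simp [s, div_mul_cancel₀ _ hv]
        · rw [h2 z hzZ, Pi.single_eq_of_ne (fun e => hb (by subst e; exact hzZ))]; simp
  let Z : Finset SI := Finset.univ.filter fun z => r.val < (sx z).val
  by_cases hall : ∀ x : SI, r.val < (sx x).val → v x = 0
  · exact ⟨1, one_mem _, fun x hx => by simpa using hall x hx⟩
  push Not at hall
  obtain ⟨b, hbr, hvb⟩ := hall
  obtain ⟨g, hg, hgv⟩ : ∃ g ∈ Gam D (p.val + 1), ap (π g) v (Sum.inr r) ≠ 0 := by
    by_cases h0 : v (Sum.inr r) = 0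
    · have hadm : Adm (Sum.inr r) (bar b) := Adm.of_idx fun e => by
        have := congrArg Fin.val e; rw [idx_bar] at this; simp [sx] at this hbr; omega
      refine ⟨D.R (Sum.inr r) (bar b) 1, hM _ _ _ hadm (by simp; omega) (by rw [sx, idx_bar]; simp [sx] at hbr ⊢; omega), ?_⟩
      rw [hπ _ _ _ hadm, RO_ap_vec hadm]
      have hne : (Sum.inr r : SI) ≠ bar b := hadm.1
      simp [ev, h0, bar_bar, hne, hvb]
    · exact ⟨1, one_mem _, by simpa using h0⟩
  obtain ⟨m, hm, -, h2⟩ := kill Z (ap (π g) v) hgv fun z hz => (Finset.mem_filter.1 hz).2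
  exact ⟨m * g, mul_mem hm hg, fun x hx => by
    rw [map_mul, ap_mul]; exact h2 x (Finset.mem_filter.2 ⟨Finset.mem_univ _, hx⟩)⟩

end Step

end Cfsg.Agent.CurtisTitsD
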