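/-
The rank-one elements of the step: torus, Weyl element, and their normalisation properties.

* `w2`, `dg`, `sm`, `sc`, `sl2_cases`.
* `hh`, `nn`, `Δ_mul`; `hh_norm_S`, `nn_norm_M`.
* `conj_hrk`, `conj_nu`, `exists_Pp_dg`.
-/
import Cfsg.Agent.Lib.CurtisTitsD.Radical

set_option autoImplicit false

open Matrix
open scoped commutatorElement

namespace Cfsg.Agent.CurtisTitsD

open CurtisTitsA Cfsg.Agent.Orth
open Cfsg.Agent.OrthAct (quadPlus)

variable {F : Type*} [Field F] {N : ℕ}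

local notation "SI" => (Fin N ⊕ Fin N)
local notation "SL2" => Matrix.SpecialLinearGroup (Fin 2) F

/-! ## SL_2 -/

/-- The Weyl element. -/
def w2 : SL2 := ⟨!![0, -1; 1, 0], by simp [Matrix.det_fin_two]⟩

/-- The torus. -/
def dg : Fˣ →* SL2 where
  toFun c := ⟨!![(c : F), 0; 0, ((c⁻¹ : Fˣ) : F)], by simp [Matrix.det_fin_two]⟩
  map_one' := Subtype.ext (by ext i j; fin_cases i <;> fin_cases j <;> simp)
  map_mul' c d := Subtype.ext (by
    show !![((c * d : Fˣ) : F), 0; 0, (((c * d)⁻¹ : Fˣ) : F)] =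
      !![(c : F), 0; 0, ((c⁻¹ : Fˣ) : F)] * !![(d : F), 0; 0, ((d⁻¹ : Fˣ) : F)]
    ext i j
    fin_cases i <;> fin_cases j <;>
      simp [Matrix.SpecialLinearGroup.coe_mul, Matrix.mul_apply, Fin.sum_univ_two, mul_comm])

/-- The representatives of the big cell. -/
def sm (a : F) : SL2 := ⟨!![a, -1; 1, 0], by simp [Matrix.det_fin_two]⟩

/-- Conjugation by diag(1, c). -/
def sc (c : Fˣ) : SL2 →* SL2 where
  toFun A := ⟨!![A.1 0 0, A.1 0 1 * ((c⁻¹ : Fˣ) : F); A.1 1 0 * (c : F), A.1 1 1], by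
    have h := A.2
    rw [Matrix.det_fin_two] at h
    rw [Matrix.det_fin_two]
    simp only [Matrix.of_apply, Matrix.cons_val', Matrix.cons_val_zero, Matrix.cons_val_one,
      Matrix.empty_val', Matrix.cons_val_fin_one]
    rw [show A.1 0 1 * ((c⁻¹ : Fˣ) : F) * (A.1 1 0 * (c : F)) =
      A.1 0 1 * A.1 1 0 * (((c⁻¹ : Fˣ) : F) * (c : F)) by ring, Units.inv_mul, mul_one]
    exact h⟩
  map_one' := Subtype.ext (by ext i j; fin_cases i <;> fin_cases j <;> simp [Matrix.one_apply])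
  map_mul' A B := Subtype.ext (by
    have hc : ((c⁻¹ : Fˣ) : F) * (c : F) = 1 := Units.inv_mul c
    show !![(A * B).1 0 0, (A * B).1 0 1 * ((c⁻¹ : Fˣ) : F); (A * B).1 1 0 * (c : F), (A * B).1 1 1] =
      !![A.1 0 0, A.1 0 1 * ((c⁻¹ : Fˣ) : F); A.1 1 0 * (c : F), A.1 1 1] *
        !![B.1 0 0, B.1 0 1 * ((c⁻¹ : Fˣ) : F); B.1 1 0 * (c : F), B.1 1 1]
    ext i j
    fin_cases i <;> fin_cases j <;>
      simp [Matrix.SpecialLinearGroup.coe_mul, Matrix.mul_apply, Fin.sum_univ_two] <;> grind)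

theorem w2_coe : (w2 : SL2).1 = !![0, -1; 1, 0] := rfl

theorem dg_coe (c : Fˣ) : (dg c : SL2).1 = !![(c : F), 0; 0, ((c⁻¹ : Fˣ) : F)] := rfl

theorem sm_coe (a : F) : (sm a : SL2).1 = !![a, -1; 1, 0] := rfl

theorem sc_coe (c : Fˣ) (A : SL2) :
    (sc c A).1 = !![A.1 0 0, A.1 0 1 * ((c⁻¹ : Fˣ) : F); A.1 1 0 * (c : F), A.1 1 1] := rfl

theorem sl2_ext {A B : SL2} (h00 : A.1 0 0 = B.1 0 0) (h01 : A.1 0 1 = B.1 0 1) (h10 : A.1 1 0 = B.1 1 0)
    (h11 : A.1 1 1 = B.1 1 1) : A = B := by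
  apply Subtype.ext
  ext i j
  fin_cases i <;> fin_cases j <;> assumption

theorem τ_w2 : τ (w2 : SL2) = w2 := by
  apply Subtype.ext
  rw [τ_two_coe]
  simp [w2_coe]

theorem τ_dg (c : Fˣ) : τ (dg c : SL2) = dg c⁻¹ := by
  apply Subtype.ext
  rw [τ_two_coe]
  simp [dg_coe]

theorem w2_mul_self : (w2 : SL2) * w2 = dg (-1) := by
  apply sl2_ext <;> simp [Matrix.SpecialLinearGroup.coe_mul, w2_coe, dg_coe, Matrix.mul_apply, Fin.sum_univ_two]

theorem w2_u (u : F) : (w2 : SL2) * tv zero_ne_one2 u = tv zero_ne_one2.symm (-u) * w2 := by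
  apply sl2_ext <;> simp [Matrix.SpecialLinearGroup.coe_mul, w2_coe, tv_coe, Matrix.mul_apply, Fin.sum_univ_two, Matrix.single_apply]

theorem dg_u (c : Fˣ) (u : F) :
    (dg c : SL2) * tv zero_ne_one2 u = tv zero_ne_one2 ((c : F) * c * u) * dg c := by
  have hc : ((c⁻¹ : Fˣ) : F) * (c : F) = 1 := Units.inv_mul c
  apply sl2_ext <;> simp [Matrix.SpecialLinearGroup.coe_mul, dg_coe, tv_coe, Matrix.mul_apply, Fin.sum_univ_two, Matrix.single_apply] <;> grind

theorem u_mul_w2 (a : F) : (tv zero_ne_one2 a : SL2) * w2 = sm a := by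
  apply sl2_ext <;> simp [Matrix.SpecialLinearGroup.coe_mul, w2_coe, sm_coe, tv_coe, Matrix.mul_apply, Fin.sum_univ_two, Matrix.single_apply]

theorem u_mul_sm (u a : F) : (tv zero_ne_one2 u : SL2) * sm a = sm (u + a) := by
  rw [← u_mul_w2, ← u_mul_w2, ← mul_assoc]
  exact congrArg (· * w2) (Matrix.SpecialLinearGroup.transvection_add zero_ne_one2 u a).symm

theorem sm_mul_dg (a : F) (c : Fˣ) : (sm a : SL2) * dg c = sc c (sm (a * c)) := by
  apply sl2_ext <;> simp [Matrix.SpecialLinearGroup.coe_mul, sm_coe, dg_coe, sc_coe, Matrix.mul_apply, Fin.sum_univ_two]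

theorem sc_negOne_w2 : sc (-1) (w2 : SL2) = sm 0 * dg (-1) := by
  apply sl2_ext <;> simp [Matrix.SpecialLinearGroup.coe_mul, sm_coe, dg_coe, sc_coe, w2_coe, Matrix.mul_apply, Fin.sum_univ_two]

theorem sc_negOne_negOne (A : SL2) : sc (-1) (sc (-1) A) = A := by
  apply sl2_ext <;> simp [sc_coe]

theorem sl2_cases (A : SL2) :
    (∃ (x : F) (c : Fˣ), A = tv zero_ne_one2 x * dg c) ∨
      ∃ (x y : F) (c : Fˣ), A = tv zero_ne_one2 x * w2 * dg c * tv zero_ne_one2 y := by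
  have hdet := A.2
  rw [Matrix.det_fin_two] at hdet
  by_cases h : A.1 1 0 = 0
  · left
    rw [h, mul_zero, sub_zero] at hdet
    refine ⟨A.1 0 1 * A.1 0 0, Units.mk0 (A.1 0 0) (left_ne_zero_of_mul_eq_one hdet), ?_⟩
    apply sl2_ext <;> simp [Matrix.SpecialLinearGroup.coe_mul, dg_coe, tv_coe, Matrix.mul_apply, Fin.sum_univ_two, Matrix.single_apply, h] <;>
      grind
  · right
    refine ⟨A.1 0 0 / A.1 1 0, A.1 1 1 / A.1 1 0, Units.mk0 (A.1 1 0) h, ?_⟩
    apply sl2_ext <;> simp [Matrix.SpecialLinearGroup.coe_mul, dg_coe, w2_coe, tv_coe, Matrix.mul_apply, Fin.sum_univ_two, Matrix.single_apply] <;>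
      grind

/-! ## In the system -/

variable {G : Type*} [Group G] [Finite F]

theorem DRels.conj_P {D : DRels F G N} (hN : 3 ≤ N) {x y : SI} (h : Adm x y) (g : G) (φ : SL2 →* G)
    (hu : ∀ t, g * D.R x (bar y) t * g⁻¹ = φ (tv zero_ne_one2 t))
    (hl : ∀ t, g * D.R y (bar x) t * g⁻¹ = φ (tv zero_ne_one2.symm t)) (A : SL2) :
    g * D.P x y A * g⁻¹ = φ A :=
  DFunLike.congr_fun (hom_ext2 (φ := (MulAut.conj g).toMonoidHom.comp (D.P x y)) (ψ := φ)
    (fun t => by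
      show g * D.P x y (tv zero_ne_one2 t) * g⁻¹ = _
      rw [(D.P_spec hN h t).1]; exact hu t)
    (fun t => by
      show g * D.P x y (tv zero_ne_one2.symm t) * g⁻¹ = _
      rw [(D.P_spec hN h t).2]; exact hl t)) A

/-- Indices of the step. -/
structure Idx (p r k : Fin N) : Prop where
  hr : r.val = p.val + 1
  hk : k.val = p.val + 2

variable (D : DRels F G N) {p r k : Fin N}

theorem Idx.hN (ix : Idx p r k) : 3 ≤ N := by have := ix.hk; have := k.2; omega

theorem adm_of {a b : SI} (h : (sx a).val ≠ (sx b).val) : Adm a b :=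
  Adm.of_idx fun e => h (congrArg Fin.val e)

/-- The product in the two commuting SL_2's. -/
noncomputable def Δ (p r : Fin N) (A B : SL2) : G :=
  D.P (Sum.inl p) (Sum.inl r) A * D.P (Sum.inl p) (Sum.inr r) B

/-- The torus element. -/
noncomputable def hh (p r : Fin N) (c : Fˣ) : G := D.P (Sum.inl p) (Sum.inl r) (dg c)

/-- The Weyl element. -/
noncomputable def nn (p r : Fin N) : G := Δ D p r w2 w2

/-- The stabiliser. -/
noncomputable def SS (p : Fin N) : Subgroup G := (qh D p).range ⊔ Gam D (p.val + 1)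

variable {D}

theorem Idx.adm_pr (ix : Idx p r k) (a b : SI) (ha : sx a = p) (hb : sx b = r) : Adm a b :=
  adm_of (by rw [ha, hb, ix.hr]; omega)

theorem Idx.adm_rk (ix : Idx p r k) (a b : SI) (ha : sx a = r) (hb : sx b = k) : Adm a b :=
  adm_of (by rw [ha, hb, ix.hr, ix.hk]; omega)

theorem Δ_mul (ix : Idx p r k) (A B A' B' : SL2) :
    Δ D p r A B * Δ D p r A' B' = Δ D p r (A * A') (B * B') := by
  have h := D.P_range_commute ix.hN (x := Sum.inl p) (y := Sum.inl r) (ix.adm_pr _ _ rfl rfl) A' B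
  change Commute (D.P (Sum.inl p) (Sum.inl r) A') (D.P (Sum.inl p) (Sum.inr r) B) at h
  simp only [Δ, map_mul]
  rw [mul_assoc, ← mul_assoc (D.P (Sum.inl p) (Sum.inr r) B), ← h.eq]
  simp [mul_assoc]

theorem Δ_left (A : SL2) : Δ D p r A 1 = D.P (Sum.inl p) (Sum.inl r) A := by simp [Δ]

theorem Δ_right (B : SL2) : Δ D p r 1 B = D.P (Sum.inl p) (Sum.inr r) B := by simp [Δ]

theorem hh_mul (c d : Fˣ) : hh D p r c * hh D p r d = hh D p r (c * d) := by rw [hh, hh, hh, map_mul, map_mul]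

theorem Pm_u (ix : Idx p r k) (t : F) :
    D.P (Sum.inl p) (Sum.inl r) (tv zero_ne_one2 t) = D.R (Sum.inl p) (Sum.inr r) t :=
  (D.P_spec ix.hN (ix.adm_pr _ _ rfl rfl) t).1

theorem Pm_l (ix : Idx p r k) (t : F) :
    D.P (Sum.inl p) (Sum.inl r) (tv zero_ne_one2.symm t) = D.R (Sum.inl r) (Sum.inr p) t :=
  (D.P_spec ix.hN (ix.adm_pr _ _ rfl rfl) t).2

theorem Pp_u (ix : Idx p r k) (t : F) :
    D.P (Sum.inl p) (Sum.inr r) (tv zero_ne_one2 t) = D.R (Sum.inl p) (Sum.inl r) t :=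
  (D.P_spec ix.hN (ix.adm_pr _ _ rfl rfl) t).1

theorem Pp_l (ix : Idx p r k) (t : F) :
    D.P (Sum.inl p) (Sum.inr r) (tv zero_ne_one2.symm t) = D.R (Sum.inr r) (Sum.inr p) t :=
  (D.P_spec ix.hN (ix.adm_pr _ _ rfl rfl) t).2

theorem Δ_u_mem (ix : Idx p r k) (x y : F) :
    Δ D p r (tv zero_ne_one2 x) (tv zero_ne_one2 y) ∈ (qh D p).range := by
  rw [Δ, Pm_u ix, Pp_u ix]
  exact mul_mem (R_mem_Q' p (by simp [InW, sx, ix.hr]) _) (R_mem_Q' p (by simp [InW, sx, ix.hr]) _)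

/-- Conjugates of the generators of the smaller group. -/
theorem conj_Gam (ix : Idx p r k) {g : G} {H : Subgroup G}
    (h1 : ∀ b : SI, r.val < (sx b).val → ∀ t,
      g * D.R (Sum.inl r) b t * g⁻¹ ∈ H ∧ g * D.R (Sum.inr r) b t * g⁻¹ ∈ H)
    (h2 : ∀ (a b : SI) (t : F), Adm a b → r.val < (sx a).val → r.val < (sx b).val →
      g * D.R a b t * g⁻¹ ∈ H) {x : G} (hx : x ∈ Gam D (p.val + 1)) : g * x * g⁻¹ ∈ H := by
  suffices hle : Gam D (p.val + 1) ≤ H.comap (MulAut.conj g).toMonoidHom from hle hx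
  refine (Subgroup.closure_le _).2 ?_
  rintro _ ⟨a, b, t, hab, ha, hb, rfl⟩
  show g * D.R a b t * g⁻¹ ∈ H
  have one : ∀ (a b : SI) (t : F), Adm a b → sx a = r → p.val + 1 ≤ (sx b).val →
      g * D.R a b t * g⁻¹ ∈ H := by
    intro a b t hab ha hb
    have hne : (sx a).val ≠ (sx b).val := fun e => hab.idx (Fin.ext e)
    rw [ha] at hne
    have hbr : r.val < (sx b).val := by rw [ix.hr] at hne ⊢; omega
    rcases eq_inl_or_inr a with e | e <;> rw [sx] at ha <;> rw [e, ha]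
    · exact (h1 b hbr t).1
    · exact (h1 b hbr t).2
  by_cases ha' : sx a = r
  · exact one a b t hab ha' hb
  by_cases hb' : sx b = r
  · rw [D.swap b a t hab.symm]
    exact one b a _ hab.symm hb' ha
  have e1 : (sx a).val ≠ r.val := fun e => ha' (Fin.ext e)
  have e2 : (sx b).val ≠ r.val := fun e => hb' (Fin.ext e)
  rw [ix.hr] at e1 e2
  exact h2 a b t hab (by rw [ix.hr]; omega) (by rw [ix.hr]; omega)

theorem P_outer (ix : Idx p r k) {x y a b : SI} (hx : sx x = p) (hy : sx y = r) (hab : Adm a b)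
    (ha : r.val < (sx a).val) (hb : r.val < (sx b).val) (A : SL2) (t : F) :
    D.P x y A * D.R a b t * (D.P x y A)⁻¹ = D.R a b t := by
  have := ix.hr
  rw [(D.P_commute ix.hN (ix.adm_pr _ _ hx hy) hab (adm_of (by rw [hx]; omega)) (adm_of (by rw [hx]; omega))
    (adm_of (by rw [hy]; omega)) (adm_of (by rw [hy]; omega)) A t).eq, mul_inv_cancel_right]

theorem conj_two {H : Type*} [Group H] (a b x : H) : a * b * x * (a * b)⁻¹ = a * (b * x * b⁻¹) * a⁻¹ := by group

theorem nn_conj (ix : Idx p r k) (b : SI) (hb : r.val < (sx b).val) (t : F) :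
    nn D p r * D.R (Sum.inl r) b t * (nn D p r)⁻¹ = D.R (Sum.inr r) b (-t) ∧
    nn D p r * D.R (Sum.inr r) b t * (nn D p r)⁻¹ = D.R (Sum.inl r) b (-t) ∧
    nn D p r * D.R (Sum.inl p) b t * (nn D p r)⁻¹ = D.R (Sum.inr p) b (-t) := by
  have hr := ix.hr
  have hN := ix.hN
  have hp : ∀ a : SI, sx a = p → Adm a b := fun a ha => adm_of (by rw [ha]; omega)
  have hq : ∀ a : SI, sx a = r → Adm a b := fun a ha => adm_of (by rw [ha]; omega)
  have b1 : D.P (Sum.inl p) (Sum.inr r) (w2 : SL2) = D.P (Sum.inr p) (Sum.inl r) w2 := by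
    have := D.P_bar hN (x := Sum.inl p) (y := Sum.inr r) (ix.adm_pr _ _ rfl rfl) (w2 : SL2)
    rw [τ_w2] at this
    exact this.symm
  have b2 : D.P (Sum.inl p) (Sum.inl r) (w2 : SL2) = D.P (Sum.inr p) (Sum.inr r) w2 := by
    have := D.P_bar hN (x := Sum.inl p) (y := Sum.inl r) (ix.adm_pr _ _ rfl rfl) (w2 : SL2)
    rw [τ_w2] at this
    exact this.symm
  simp only [nn, Δ, conj_two]
  refine ⟨?_, ?_, ?_⟩
  · rw [b1, D.P_act1 hN (ix.adm_pr _ _ rfl rfl) (hp _ rfl) (hq _ rfl), b2]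
    simp only [w2_coe, Matrix.of_apply, Matrix.cons_val', Matrix.cons_val_zero, Matrix.cons_val_one, Matrix.empty_val', Matrix.cons_val_fin_one, zero_mul, neg_mul, one_mul]
    rw [D.zero (hq _ rfl), mul_one]
    have := D.P_act0 hN (ix.adm_pr (Sum.inr p) (Sum.inr r) rfl rfl) (hp _ rfl) (hq _ rfl) (w2 : SL2) (-t)
    simp only [w2_coe, Matrix.of_apply, Matrix.cons_val', Matrix.cons_val_zero, Matrix.cons_val_one, Matrix.empty_val', Matrix.cons_val_fin_one, zero_mul, one_mul] at this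
    rw [this, D.zero (hp _ rfl), one_mul]
  · rw [D.P_act1 hN (ix.adm_pr _ _ rfl rfl) (hp _ rfl) (hq _ rfl)]
    simp only [w2_coe, Matrix.of_apply, Matrix.cons_val', Matrix.cons_val_zero, Matrix.cons_val_one, Matrix.empty_val', Matrix.cons_val_fin_one, zero_mul, neg_mul, one_mul]
    rw [D.zero (hq _ rfl), mul_one]
    have := D.P_act0 hN (ix.adm_pr (Sum.inl p) (Sum.inl r) rfl rfl) (hp _ rfl) (hq _ rfl) (w2 : SL2) (-t)
    simp only [w2_coe, Matrix.of_apply, Matrix.cons_val', Matrix.cons_val_zero, Matrix.cons_val_one, Matrix.empty_val', Matrix.cons_val_fin_one, zero_mul, one_mul] at this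
    rw [this, D.zero (hp _ rfl), one_mul]
  · rw [D.P_act0 hN (ix.adm_pr _ _ rfl rfl) (hp _ rfl) (hq _ rfl), b2]
    simp only [w2_coe, Matrix.of_apply, Matrix.cons_val', Matrix.cons_val_zero, Matrix.cons_val_one, Matrix.empty_val', Matrix.cons_val_fin_one, zero_mul, one_mul]
    rw [D.zero (hp _ rfl), one_mul]
    have := D.P_act1 hN (ix.adm_pr (Sum.inr p) (Sum.inr r) rfl rfl) (hp _ rfl) (hq _ rfl) (w2 : SL2) t
    simp only [w2_coe, Matrix.of_apply, Matrix.cons_val', Matrix.cons_val_zero, Matrix.cons_val_one, Matrix.empty_val', Matrix.cons_val_fin_one, zero_mul, neg_mul, one_mul] at this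
    rw [this, D.zero (hq _ rfl), mul_one]

/-- The pairs of rank-one elements have finite order. -/
theorem Δ_isOfFinOrder (ix : Idx p r k) (A B : SL2) : IsOfFinOrder (Δ D p r A B) :=
  let φ : SL2 × SL2 →* G := MonoidHom.mk' (fun x => Δ D p r x.1 x.2) fun _ _ => (Δ_mul ix _ _ _ _).symm
  φ.isOfFinOrder (isOfFinOrder_of_finite ((A, B) : SL2 × SL2))

theorem hh_isOfFinOrder (c : Fˣ) : IsOfFinOrder (hh D p r c) :=
  ((D.P (Sum.inl p) (Sum.inl r)).comp (dg : Fˣ →* SL2)).isOfFinOrder (isOfFinOrder_of_finite c)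


theorem nn_norm_M (ix : Idx p r k) :
    nn D p r ∈ Subgroup.normalizer (Gam D (p.val + 1) : Set G) := by
  have hr := ix.hr
  refine mem_normalizer_of (Δ_isOfFinOrder ix _ _) fun x hx => conj_Gam ix (fun b hb t => ?_) (fun a b t hab ha hb => ?_) hx
  · obtain ⟨e1, e2, -⟩ := nn_conj (D := D) ix b hb t
    rw [e1, e2]
    exact ⟨R_mem_Gam D (adm_of (by simp [sx] at hb ⊢; omega)) (by simp; omega) (by omega) _,
      R_mem_Gam D (adm_of (by simp [sx] at hb ⊢; omega)) (by simp; omega) (by omega) _⟩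
  · rw [nn, Δ, conj_two, P_outer ix rfl rfl hab ha hb, P_outer ix rfl rfl hab ha hb]
    exact R_mem_Gam D hab (by omega) (by omega) _

theorem hh_norm_M (ix : Idx p r k) (c : Fˣ) :
    hh D p r c ∈ Subgroup.normalizer (Gam D (p.val + 1) : Set G) := by
  have hr := ix.hr
  have hN := ix.hN
  refine mem_normalizer_of (hh_isOfFinOrder c) fun x hx => conj_Gam ix (fun b hb t => ?_) (fun a b t hab ha hb => ?_) hx
  · have hp : ∀ a : SI, sx a = p → Adm a b := fun a ha => adm_of (by rw [ha]; omega)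
    have hq : ∀ a : SI, sx a = r → Adm a b := fun a ha => adm_of (by rw [ha]; omega)
    have hM : ∀ a : SI, sx a = r → ∀ u, D.R a b u ∈ Gam D (p.val + 1) := fun a ha u =>
      R_mem_Gam D (hq a ha) (by rw [ha]; omega) (by omega) _
    have h1 : hh D p r c * D.R (Sum.inl r) b t * (hh D p r c)⁻¹ = D.R (Sum.inl r) b (((c⁻¹ : Fˣ) : F) * t) := by
      rw [hh, D.P_act1 hN (ix.adm_pr _ _ rfl rfl) (hp _ rfl) (hq _ rfl)]
      simp only [dg_coe, Matrix.of_apply, Matrix.cons_val', Matrix.cons_val_zero, Matrix.cons_val_one, Matrix.empty_val', Matrix.cons_val_fin_one, zero_mul]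
      rw [D.zero (hp _ rfl), one_mul]
    have h2 : hh D p r c * D.R (Sum.inr r) b t * (hh D p r c)⁻¹ = D.R (Sum.inr r) b ((c : F) * t) := by
      have e := D.P_bar hN (x := Sum.inl p) (y := Sum.inl r) (ix.adm_pr _ _ rfl rfl) (dg c⁻¹ : SL2)
      rw [τ_dg, inv_inv] at e
      change D.P (Sum.inr p) (Sum.inr r) (dg c⁻¹) = _ at e
      rw [hh, ← e, D.P_act1 hN (ix.adm_pr _ _ rfl rfl) (hp _ rfl) (hq _ rfl)]
      simp only [dg_coe, Matrix.of_apply, Matrix.cons_val', Matrix.cons_val_zero, Matrix.cons_val_one, Matrix.empty_val', Matrix.cons_val_fin_one, zero_mul, inv_inv]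
      rw [D.zero (hp _ rfl), one_mul]
    rw [h1, h2]
    exact ⟨hM _ rfl _, hM _ rfl _⟩
  · rw [hh, P_outer ix rfl rfl hab ha hb]
    exact R_mem_Gam D hab (by omega) (by omega) _

theorem hh_norm_Q (ix : Idx p r k) (c : Fˣ) :
    hh D p r c ∈ Subgroup.normalizer ((qh D p).range : Set G) := by
  have hr := ix.hr
  have hN := ix.hN
  refine mem_normalizer_of (hh_isOfFinOrder c) fun q hq => ?_
  suffices hle : (qh D p).range ≤ ((qh D p).range).comap (MulAut.conj (hh D p r c)).toMonoidHom from hle hq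
  refine Q_le p fun b hb t => ?_
  show hh D p r c * D.R b (Sum.inl p) t * (hh D p r c)⁻¹ ∈ (qh D p).range
  rw [D.swap (Sum.inl p) b t hb.adm.symm]
  by_cases hbr : sx b = r
  · rcases eq_inl_or_inr b with e | e <;> rw [sx] at hbr <;> rw [e, hbr]
    · rw [← Pp_u ix, ← Δ_right (D := D), hh, ← Δ_left (D := D), Δ_mul ix, one_mul, mul_one,
        show (Δ D p r (dg c) (tv zero_ne_one2 (-t))) =
          Δ D p r 1 (tv zero_ne_one2 (-t)) * Δ D p r (dg c) 1 by rw [Δ_mul ix, one_mul, mul_one],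
        mul_inv_cancel_right, Δ_right, Pp_u ix]
      exact R_mem_Q' p (by simp [InW, sx, hr]) _
    · rw [← Pm_u ix, hh, ← map_mul, dg_u, map_mul, mul_inv_cancel_right, Pm_u ix]
      exact R_mem_Q' p (by simp [InW, sx, hr]) _
  · have hb' : r.val < (sx b).val := by
      have e1 : (sx b).val ≠ r.val := fun e => hbr (Fin.ext e)
      simp [InW] at hb
      omega
    rw [hh, D.P_act0 hN (ix.adm_pr _ _ rfl rfl) (adm_of (by simp [sx] at hb' ⊢; omega))
      (adm_of (by simp [sx] at hb' ⊢; omega))]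
    simp only [dg_coe, Matrix.of_apply, Matrix.cons_val', Matrix.cons_val_zero, Matrix.cons_val_one, Matrix.empty_val', Matrix.cons_val_fin_one, zero_mul]
    rw [D.zero (adm_of (by simp [sx] at hb' ⊢; omega)), mul_one]
    exact R_mem_Q' p hb _

theorem hh_conj_S (ix : Idx p r k) (c : Fˣ) {s : G} (hs : s ∈ SS D p) :
    hh D p r c * s * (hh D p r c)⁻¹ ∈ SS D p := by
  suffices hle : SS D p ≤ (SS D p).comap (MulAut.conj (hh D p r c)).toMonoidHom from hle hs
  refine sup_le (fun x hx => ?_) (fun x hx => ?_)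
  · exact Subgroup.mem_sup_left ((Subgroup.mem_normalizer_iff.1 (hh_norm_Q ix c) x).1 hx)
  · exact Subgroup.mem_sup_right ((Subgroup.mem_normalizer_iff.1 (hh_norm_M ix c) x).1 hx)

theorem conj_hrk (ix : Idx p r k) (c : Fˣ) (A : SL2) :
    D.P (Sum.inl r) (Sum.inl k) (dg c) * D.P (Sum.inl p) (Sum.inl r) A *
      (D.P (Sum.inl r) (Sum.inl k) (dg c))⁻¹ = D.P (Sum.inl p) (Sum.inl r) (sc c A) := by
  have hr := ix.hr
  have hk := ix.hk
  have hN := ix.hN
  refine D.conj_P hN (ix.adm_pr _ _ rfl rfl) _ ((D.P (Sum.inl p) (Sum.inl r)).comp (sc c)) (fun t => ?_)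
    (fun t => ?_) A
  · have e : sc c (tv zero_ne_one2 t : SL2) = tv zero_ne_one2 (((c⁻¹ : Fˣ) : F) * t) := by
      apply sl2_ext <;> simp [sc_coe, tv_coe, Matrix.single_apply, Matrix.one_apply, mul_comm]
    rw [MonoidHom.comp_apply, e, Pm_u ix]
    show D.P _ _ (dg c) * D.R (Sum.inl p) (Sum.inr r) t * _ = _
    have eb := D.P_bar hN (x := Sum.inl r) (y := Sum.inl k) (ix.adm_rk _ _ rfl rfl) (dg c⁻¹ : SL2)
    rw [τ_dg, inv_inv] at eb
    change D.P (Sum.inr r) (Sum.inr k) (dg c⁻¹) = _ at eb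
    rw [← eb, D.swap (Sum.inr r) (Sum.inl p) t (ix.adm_pr _ _ rfl rfl).symm,
      D.P_act0 hN (ix.adm_rk _ _ rfl rfl) (adm_of (by simp [sx]; omega)) (adm_of (by simp [sx]; omega))]
    simp only [dg_coe, Matrix.of_apply, Matrix.cons_val', Matrix.cons_val_zero, Matrix.cons_val_one, Matrix.empty_val', Matrix.cons_val_fin_one, zero_mul]
    rw [D.zero (adm_of (by simp [sx]; omega)), mul_one,
      D.swap (Sum.inr r) (Sum.inl p) _ (ix.adm_pr _ _ rfl rfl).symm, mul_neg]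
  · have e : sc c (tv zero_ne_one2.symm t : SL2) = tv zero_ne_one2.symm ((c : F) * t) := by
      apply sl2_ext <;> simp [sc_coe, tv_coe, Matrix.single_apply, Matrix.one_apply, mul_comm]
    rw [MonoidHom.comp_apply, e, Pm_l ix]
    show D.P _ _ (dg c) * D.R (Sum.inl r) (Sum.inr p) t * _ = _
    rw [D.P_act0 hN (ix.adm_rk _ _ rfl rfl) (adm_of (by simp [sx]; omega)) (adm_of (by simp [sx]; omega))]
    simp only [dg_coe, Matrix.of_apply, Matrix.cons_val', Matrix.cons_val_zero, Matrix.cons_val_one, Matrix.empty_val', Matrix.cons_val_fin_one, zero_mul]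
    rw [D.zero (adm_of (by simp [sx]; omega)), mul_one]

/-- The element exchanging the two SL_2's. -/
noncomputable def nu (D : DRels F G N) (r k : Fin N) : G :=
  D.P (Sum.inl r) (Sum.inl k) w2 * D.P (Sum.inl r) (Sum.inr k) w2

theorem nu_mem (ix : Idx p r k) : nu D r k ∈ Gam D (p.val + 1) := by
  have hr := ix.hr
  have hk := ix.hk
  refine mul_mem ?_ ?_ <;> refine D.P_mem ix.hN (ix.adm_rk _ _ rfl rfl) ?_ ?_ _ <;>
    exact fun t => R_mem_Gam D (adm_of (by simp [sx, bar]; omega)) (by simp [sx, bar]; omega)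
      (by simp [sx, bar]; omega) _

theorem conj_nu (ix : Idx p r k) (A : SL2) :
    nu D r k * D.P (Sum.inl p) (Sum.inl r) A * (nu D r k)⁻¹ =
      D.P (Sum.inl p) (Sum.inr r) (sc (-1) A) := by
  have hr := ix.hr
  have hk := ix.hk
  have hN := ix.hN
  have hp : ∀ a b : SI, sx a = r → sx b = p → Adm a b := fun a b ha hb => (ix.adm_pr b a hb ha).symm
  have hq : ∀ a b : SI, sx a = k → sx b = p → Adm a b := fun a b ha hb => adm_of (by rw [ha, hb]; omega)
  refine D.conj_P hN (ix.adm_pr _ _ rfl rfl) _ ((D.P (Sum.inl p) (Sum.inr r)).comp (sc (-1))) (fun t => ?_)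
    (fun t => ?_) A
  · have e : sc (-1) (tv zero_ne_one2 t : SL2) = tv zero_ne_one2 (-t) := by
      apply sl2_ext <;> simp [sc_coe, tv_coe, Matrix.single_apply, Matrix.one_apply]
    rw [MonoidHom.comp_apply, e, Pp_u ix]
    show nu D r k * D.R (Sum.inl p) (Sum.inr r) t * _ = _
    have eb := D.P_bar hN (x := Sum.inl r) (y := Sum.inr k) (ix.adm_rk _ _ rfl rfl) (w2 : SL2)
    rw [τ_w2] at eb
    change D.P (Sum.inr r) (Sum.inl k) w2 = _ at eb
    rw [nu, conj_two, ← eb, D.swap (Sum.inr r) (Sum.inl p) t (hp _ _ rfl rfl),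
      D.P_act0 hN (ix.adm_rk _ _ rfl rfl) (hp _ _ rfl rfl) (hq _ _ rfl rfl)]
    simp only [w2_coe, Matrix.of_apply, Matrix.cons_val', Matrix.cons_val_zero, Matrix.cons_val_one, Matrix.empty_val', Matrix.cons_val_fin_one, zero_mul, one_mul]
    rw [D.zero (hp _ _ rfl rfl), one_mul]
    have := D.P_act1 hN (ix.adm_rk (Sum.inl r) (Sum.inl k) rfl rfl) (k := Sum.inl p) (hp _ _ rfl rfl)
      (hq _ _ rfl rfl) (w2 : SL2) (-t)
    simp only [w2_coe, Matrix.of_apply, Matrix.cons_val', Matrix.cons_val_zero, Matrix.cons_val_one, Matrix.empty_val', Matrix.cons_val_fin_one, zero_mul, neg_mul, one_mul, neg_neg] at this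
    refine this.trans ?_
    rw [D.zero (hq _ _ rfl rfl), mul_one, D.swap (Sum.inl r) (Sum.inl p) (-t) (hp _ _ rfl rfl), neg_neg]
  · have e : sc (-1) (tv zero_ne_one2.symm t : SL2) = tv zero_ne_one2.symm (-t) := by
      apply sl2_ext <;> simp [sc_coe, tv_coe, Matrix.single_apply, Matrix.one_apply]
    rw [MonoidHom.comp_apply, e, Pp_l ix]
    show nu D r k * D.R (Sum.inl r) (Sum.inr p) t * _ = _
    rw [nu, conj_two, D.P_act0 hN (ix.adm_rk _ _ rfl rfl) (hp _ _ rfl rfl) (hq _ _ rfl rfl)]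
    simp only [w2_coe, Matrix.of_apply, Matrix.cons_val', Matrix.cons_val_zero, Matrix.cons_val_one, Matrix.empty_val', Matrix.cons_val_fin_one, zero_mul, one_mul]
    rw [D.zero (hp _ _ rfl rfl), one_mul]
    have eb := D.P_bar hN (x := Sum.inl r) (y := Sum.inl k) (ix.adm_rk _ _ rfl rfl) (w2 : SL2)
    rw [τ_w2] at eb
    have := D.P_act1 hN (ix.adm_rk (Sum.inr r) (Sum.inr k) rfl rfl) (k := Sum.inr p) (hp _ _ rfl rfl)
      (hq _ _ rfl rfl) (w2 : SL2) t
    simp only [w2_coe, Matrix.of_apply, Matrix.cons_val', Matrix.cons_val_zero, Matrix.cons_val_one, Matrix.empty_val', Matrix.cons_val_fin_one, zero_mul, neg_mul, one_mul] at this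
    change D.P (Sum.inl r) (Sum.inl k) _ * _ * (D.P (Sum.inl r) (Sum.inl k) _)⁻¹ = _
    rw [← eb]
    refine this.trans ?_
    rw [D.zero (hq _ _ rfl rfl), mul_one]

theorem exists_Pp_dg (ix : Idx p r k) (c : Fˣ) :
    ∃ m ∈ Gam D (p.val + 1), D.P (Sum.inl p) (Sum.inr r) (dg c : SL2) = hh D p r c * m := by
  have e : sc (-1) (dg c : SL2) = dg c := by apply sl2_ext <;> simp [sc_coe, dg_coe]
  have h := conj_nu (D := D) ix (dg c)
  rw [e] at h
  refine ⟨(hh D p r c)⁻¹ * nu D r k * hh D p r c * (nu D r k)⁻¹, mul_mem ?_ (inv_mem (nu_mem ix)), ?_⟩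
  · exact (Subgroup.mem_normalizer_iff''.1 (hh_norm_M ix c) _).1 (nu_mem ix)
  · rw [← h, hh]; group

end Cfsg.Agent.CurtisTitsD
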